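import Cfsg.Agent.ClassicalMax.ExtOrth.Main
import Cfsg.Agent.Classical.ExcCore

/-!
A quadratic form in three variables over an extension field `K` of odd prime degree and its trace form over `F`:
frames, the unipotent radical of the stabiliser of a cone line, tori.
-/

set_option autoImplicit false
set_option linter.unusedSectionVars false
set_option linter.style.haveILetI false

namespace Cfsg.Agent.ClassicalMax.ExtOrth3

open Module QuadraticMap Cfsg.Agent.Classical Cfsg.Agent.Classical.Quad

variable {F K V : Type*} [Field F] [Field K] [Algebra F K] [AddCommGroup V] [Module F V] [Module K V]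
  [IsScalarTower F K V] [Finite K] {Q : QuadraticForm F V} {QK : QuadraticForm K V} {l : K →ₗ[F] F}

/-- `Q` is the composite of `l` with a non-degenerate ternary form over `K` -/
structure Setting (Q : QuadraticForm F V) (QK : QuadraticForm K V) (l : K →ₗ[F] F) : Prop where
  prime : (finrank F K).Prime
  ne_two : finrank F K ≠ 2
  two : (2 : F) ≠ 0
  nd : (polarBilin QK).Nondegenerate
  three : finrank K V = 3
  hl : l ≠ 0
  eq : ∀ x, Q x = l (QK x)

/-- restriction of scalars -/
def res (hS : Setting Q QK l) : oG QK →* oG Q where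
  toFun g := ⟨g.1.restrictScalars F, fun x => by
    show Q (g.1 x) = Q x
    rw [hS.eq, hS.eq, g.2]⟩
  map_one' := rfl
  map_mul' _ _ := rfl

theorem res_apply (hS : Setting Q QK l) (g : oG QK) (x : V) : (res hS g).1 x = g.1 x := rfl

theorem res_inv_apply (hS : Setting Q QK l) (g : oG QK) (x : V) : ((res hS g)⁻¹).1 x = (g⁻¹).1 x := by
  rw [← map_inv]; rfl

/-- the isometries linear over `K` in the commutator subgroup lie in `H` -/
def Le (hS : Setting Q QK l) (H : Subgroup (oG Q)) : Prop := ∀ h ∈ commutator (oG QK), res hS h ∈ H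

/-- a hyperbolic pair and a vector orthogonal to it -/
structure Frame (QK : QuadraticForm K V) (v y w : V) : Prop where
  hv : QK v = 0
  hy : QK y = 0
  hvy : polar QK v y = 1
  hvw : polar QK v w = 0
  hyw : polar QK y w = 0
  hw : QK w ≠ 0

namespace Setting

theorem three_le (hS : Setting Q QK l) : 3 ≤ finrank F K := by
  have := hS.prime.two_le
  have := hS.ne_two
  omega

theorem fin (hS : Setting Q QK l) : FiniteDimensional F K := Module.finite_of_finrank_pos hS.prime.pos

theorem finV (hS : Setting Q QK l) : FiniteDimensional K V :=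
  Module.finite_of_finrank_pos (by rw [hS.three]; norm_num)

theorem finVF (hS : Setting Q QK l) : FiniteDimensional F V :=
  haveI := hS.fin
  haveI := hS.finV
  Module.Finite.trans K V

theorem finrankV (hS : Setting Q QK l) : finrank F V = 3 * finrank F K := by
  rw [← Module.finrank_mul_finrank F K V, hS.three, mul_comm]

theorem twoK (hS : Setting Q QK l) : (2 : K) ≠ 0 := fun h =>
  hS.two ((algebraMap F K).injective (by rw [map_ofNat, map_zero]; exact h))

theorem polar_eq (hS : Setting Q QK l) (x z : V) : polar Q x z = l (polar QK x z) := by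
  simp only [polar, hS.eq, map_sub]

theorem cone (hS : Setting Q QK l) {x : V} (hx : QK x = 0) (c : K) : Q (c • x) = 0 := by
  rw [hS.eq, map_smul', hx, mul_zero, map_zero]

theorem sep (hS : Setting Q QK l) {a b : K} (h : ∀ c, l (c * a) = l (c * b)) : a = b := ExtField.mul_sep hS.hl h

theorem rep (hS : Setting Q QK l) (f : K →ₗ[F] F) : ∃ κ : K, ∀ c, l (c * κ) = f c :=
  haveI := hS.fin
  ExtField.mul_rep hS.hl f

theorem sep0 (hS : Setting Q QK l) {a : K} (h : ∀ c, l (c * a) = 0) : a = 0 :=
  hS.sep fun c => by rw [h, mul_zero, map_zero]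

theorem exists_one (hS : Setting Q QK l) {a : K} (ha : a ≠ 0) : ∃ c : K, l (c * a) = 1 := by
  obtain ⟨c, hc⟩ : ∃ c : K, l (c * a) ≠ 0 := by
    by_contra h
    push Not at h
    exact ha (hS.sep0 h)
  exact ⟨(l (c * a))⁻¹ • c, by rw [smul_mul_assoc, map_smul, smul_eq_mul, inv_mul_cancel₀ hc]⟩

theorem nondeg (hS : Setting Q QK l) : (polarBilin Q).Nondegenerate := nondeg_of fun x hx =>
  eq_zero_of_polar hS.nd fun z => hS.sep0 fun c => by
    rw [← smul_eq_mul, ← polar_smul_right, ← hS.polar_eq]; exact hx _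

/-- a cone vector has a frame -/
theorem exists_frame (hS : Setting Q QK l) {v : V} (hv0 : v ≠ 0) (hv : QK v = 0) : ∃ y w, Frame QK v y w := by
  haveI := hS.finV
  obtain ⟨y, hy, hvy⟩ := exists_hyp_pair hS.nd hv0 hv
  obtain ⟨w, h1, h2, h3⟩ := exists_aniso_perp hS.nd (by rw [hS.three]) hv hy hvy
  exact ⟨y, w, hv, hy, hvy, h1, h2, h3⟩

theorem exists_cone (hS : Setting Q QK l) : ∃ v, v ≠ 0 ∧ QK v = 0 :=
  haveI := hS.finV
  exists_singular QK (by rw [hS.three])

theorem eo_comm (hS : Setting Q QK l) : eo QK = commutator (oG QK) := by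
  haveI := hS.finV
  exact eo_eq_commutator hS.nd (by rw [hS.three]) (hex_of_two hS.twoK _)

theorem sO_mem (hS : Setting Q QK l) {p w : V} (hp : QK p = 0) (hpw : polar QK p w = 0) :
    sO hp hpw ∈ commutator (oG QK) := hS.eo_comm ▸ sO_mem_eo hp hpw

theorem trans (hS : Setting Q QK l) {v v' : V} (hv0 : v ≠ 0) (hv : QK v = 0) (hv0' : v' ≠ 0) (hv' : QK v' = 0) :
    ∃ h ∈ commutator (oG QK), ∃ t : K, t ≠ 0 ∧ h.1 v = t • v' := by
  haveI := hS.finV
  obtain ⟨g, hg, r⟩ := exists_eo_point hS.nd (by rw [hS.three]) hv0 hv hv0' hv'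
  exact ⟨g, hS.eo_comm ▸ hg, r⟩

/-- squares and their multiples by a scalar exhaust `K` -/
theorem sq_or (hS : Setting Q QK l) [Finite F] :
    ∃ f : F, f ≠ 0 ∧ ∀ x : K, x ≠ 0 → ∃ c : K, c ≠ 0 ∧ (x = c * c ∨ x = algebraMap F K f * (c * c)) := by
  haveI := hS.fin
  haveI := Fintype.ofFinite F
  haveI := Fintype.ofFinite K
  have hch : ringChar F ≠ 2 := fun h => hS.two (by
    haveI := ringChar.of_eq h
    exact CharTwo.two_eq_zero)
  have hchK : ringChar K ≠ 2 := fun h => hS.twoK (by
    haveI := ringChar.of_eq h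
    exact CharTwo.two_eq_zero)
  obtain ⟨f, hf⟩ := FiniteField.exists_nonsquare hch
  have hf0 : f ≠ 0 := fun e => hf (e ▸ IsSquare.zero)
  have hfK : ¬ IsSquare (algebraMap F K f) := by
    rintro ⟨c, hc⟩
    haveI := Subalgebra.isSimpleOrder_of_finrank_prime F K hS.prime
    let M : Submodule F K := Submodule.span F {1, c}
    have hcc : ∀ a ∈ M, ∀ b ∈ M, a * b ∈ M := fun a ha b hb => by
      obtain ⟨a₁, a₂, rfl⟩ := Submodule.mem_span_pair.1 ha
      obtain ⟨b₁, b₂, rfl⟩ := Submodule.mem_span_pair.1 hb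
      refine Submodule.mem_span_pair.2 ⟨a₁ * b₁ + a₂ * b₂ * f, a₁ * b₂ + a₂ * b₁, ?_⟩
      simp only [Algebra.smul_def, map_add, map_mul, hc]
      ring
    have h1 : (1 : K) ∈ M := Submodule.subset_span (Or.inl rfl)
    rcases eq_bot_or_eq_top (M.toSubalgebra h1 fun a b ha hb => hcc a ha b hb) with e | e
    · obtain ⟨t, ht⟩ := Algebra.mem_bot.1 (e ▸ (Submodule.subset_span (Or.inr rfl) : c ∈ M) :
        c ∈ (⊥ : Subalgebra F K))
      exact hf ⟨t, (algebraMap F K).injective (by rw [hc, ← ht, map_mul])⟩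
    · have hM : (⊤ : Submodule F K) ≤ M := fun x _ => (e.symm ▸ Algebra.mem_top :
        x ∈ M.toSubalgebra h1 fun a b ha hb => hcc a ha b hb)
      have h2 := Submodule.finrank_mono hM
      classical
      have h3 := finrank_span_le_card (R := F) ({1, c} : Set K)
      rw [Set.toFinset_insert, Set.toFinset_singleton] at h3
      have h4 := h3.trans Finset.card_le_two
      rw [finrank_top] at h2
      have h5 := hS.three_le
      have : finrank F K ≤ 2 := h2.trans h4
      omega
  refine ⟨f, hf0, fun x hx => ?_⟩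
  by_cases hsq : IsSquare x
  · obtain ⟨c, hc⟩ := hsq
    exact ⟨c, fun e => hx (by rw [hc, e, mul_zero]), Or.inl hc⟩
  classical
  have hf0K : algebraMap F K f ≠ 0 := fun e => hf0 ((algebraMap F K).injective (by rw [e, map_zero]))
  have h1 : quadraticChar K (x * (algebraMap F K f)⁻¹) = 1 := by
    rw [map_mul, quadraticChar_neg_one_iff_not_isSquare.2 hsq,
      quadraticChar_neg_one_iff_not_isSquare.2 (fun h => hfK (by simpa using h.inv))]
    norm_num
  obtain ⟨c, hc⟩ := (quadraticChar_one_iff_isSquare (mul_ne_zero hx (inv_ne_zero hf0K))).1 h1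
  refine ⟨c, fun e => ?_, Or.inr ?_⟩
  · rw [e, mul_zero, mul_eq_zero] at hc
    rcases hc with h | h
    exacts [hx h, inv_ne_zero hf0K h]
  · rw [← hc, mul_comm x, mul_inv_cancel_left₀ hf0K]

end Setting

namespace Frame

variable {v y w : V}

theorem v_ne (fr : Frame QK v y w) : v ≠ 0 := fun e => by
  have := fr.hvy; rw [e] at this; simp [polar] at this

theorem y_ne (fr : Frame QK v y w) : y ≠ 0 := fun e => by
  have := fr.hvy; rw [e] at this; simp [polar] at this

theorem w_ne (fr : Frame QK v y w) : w ≠ 0 := fun e => fr.hw (by rw [e, map_zero])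

theorem symm (fr : Frame QK v y w) : Frame QK y v w :=
  ⟨fr.hy, fr.hv, by rw [polar_comm, fr.hvy], fr.hyw, fr.hvw, fr.hw⟩

theorem smul (fr : Frame QK v y w) {c : K} (hc : c ≠ 0) : Frame QK (c • v) (c⁻¹ • y) w where
  hv := by rw [map_smul', fr.hv, mul_zero]
  hy := by rw [map_smul', fr.hy, mul_zero]
  hvy := by rw [polar_smul_left, polar_smul_right, fr.hvy, smul_eq_mul, smul_eq_mul, mul_one, mul_inv_cancel₀ hc]
  hvw := by rw [polar_smul_left, fr.hvw, smul_zero]
  hyw := by rw [polar_smul_left, fr.hyw, smul_zero]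
  hw := fr.hw

theorem map (fr : Frame QK v y w) (k : oG QK) : Frame QK (k.1 v) (k.1 y) (k.1 w) where
  hv := by rw [k.2, fr.hv]
  hy := by rw [k.2, fr.hy]
  hvy := by rw [polar_oG, fr.hvy]
  hvw := by rw [polar_oG, fr.hvw]
  hyw := by rw [polar_oG, fr.hyw]
  hw := by rw [k.2]; exact fr.hw

theorem eval (fr : Frame QK v y w) (a b c : K) :
    polar QK v (a • v + b • y + c • w) = b ∧ polar QK y (a • v + b • y + c • w) = a ∧
      polar QK w (a • v + b • y + c • w) = 2 * QK w * c ∧
      QK (a • v + b • y + c • w) = a * b + c * c * QK w := by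
  refine ⟨?_, ?_, ?_, ?_⟩
  · simp [polar_add_right, polar_smul_right, polar_self', fr.hv, fr.hvy, fr.hvw]
  · simp [polar_add_right, polar_smul_right, polar_self', fr.hy, fr.hyw, polar_comm QK y v, fr.hvy]
  · simp only [polar_add_right, polar_smul_right, polar_self', polar_comm QK w v, polar_comm QK w y, fr.hvw, fr.hyw,
      smul_eq_mul]
    ring
  · simp only [map_add', map_smul', polar_add_left, polar_smul_left, polar_smul_right, fr.hv, fr.hy, fr.hvy, fr.hvw,
      fr.hyw, smul_eq_mul]
    ring

theorem decomp (fr : Frame QK v y w) (hS : Setting Q QK l) (x : V) :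
    x = polar QK y x • v + polar QK v x • y + (polar QK w x / (2 * QK w)) • w := by
  haveI := hS.finV
  have hli : LinearIndependent K ![v, y, w] := by
    rw [Fintype.linearIndependent_iff]
    intro g hg
    have e : g 0 • v + g 1 • y + g 2 • w = 0 := by simpa [Fin.sum_univ_three] using hg
    obtain ⟨e1, e2, e3, -⟩ := fr.eval (g 0) (g 1) (g 2)
    rw [e] at e1 e2 e3
    have z : ∀ u : V, polar QK u 0 = 0 := fun u => by simp [polar]
    rw [z] at e1 e2 e3
    have e4 : g 2 = 0 := (mul_eq_zero.1 e3.symm).resolve_left (mul_ne_zero hS.twoK fr.hw)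
    intro i
    fin_cases i <;> simp [← e1, ← e2, e4]
  have hsp := hli.span_eq_top_of_card_eq_finrank (by rw [hS.three]; rfl)
  have hx : x ∈ Submodule.span K (Set.range ![v, y, w]) := hsp ▸ Submodule.mem_top
  obtain ⟨g, hg⟩ := (Submodule.mem_span_range_iff_exists_fun K).1 hx
  have e : x = g 0 • v + g 1 • y + g 2 • w := by rw [← hg]; simp [Fin.sum_univ_three]
  obtain ⟨e1, e2, e3, -⟩ := fr.eval (g 0) (g 1) (g 2)
  rw [← e] at e1 e2 e3
  rw [e1, e2, e3, mul_div_cancel_left₀ _ (mul_ne_zero hS.twoK fr.hw)]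
  exact e

/-- membership in the orthogonal of the first vector -/
theorem perp (fr : Frame QK v y w) (hS : Setting Q QK l) {x : V} (hx : polar QK v x = 0) :
    ∃ a c : K, x = a • v + c • w :=
  ⟨_, _, by conv_lhs => rw [fr.decomp hS x, hx, zero_smul, add_zero]⟩

theorem perp_mem (fr : Frame QK v y w) (a c : K) : polar QK v (a • v + c • w) = 0 := by
  simp [polar_add_right, polar_smul_right, polar_self', fr.hv, fr.hvw]

/-- a cone vector orthogonal to the first vector is a multiple of it -/
theorem cone_perp (fr : Frame QK v y w) (hS : Setting Q QK l) {x : V} (hx : QK x = 0) (hvx : polar QK v x = 0) :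
    x = polar QK y x • v := by
  have e := fr.decomp hS x
  rw [hvx, zero_smul, add_zero] at e
  have h4 := (fr.eval (polar QK y x) 0 (polar QK w x / (2 * QK w))).2.2.2
  rw [zero_smul, add_zero, ← e, hx, mul_zero, zero_add, eq_comm, mul_eq_zero, or_iff_left fr.hw,
    mul_self_eq_zero] at h4
  rwa [h4, zero_smul, add_zero] at e

end Frame

/-- the element of the root group of the cone line of `v` with parameter `t` -/
def tr {v y w : V} (hS : Setting Q QK l) (fr : Frame QK v y w) (t : K) : oG Q :=
  res hS (sO fr.hv (polar_perp_smul fr.hvw t))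

section tr

variable {v y w : V} (hS : Setting Q QK l) (fr : Frame QK v y w)

theorem tr_mem {H : Subgroup (oG Q)} (hle : Le hS H) (t : K) : tr hS fr t ∈ H := hle _ (hS.sO_mem _ _)

theorem tr_apply (t : K) (x : V) : (tr hS fr t).1 x =
    x + (t * polar QK x w - t * t * QK w * polar QK v x) • v - (t * polar QK v x) • w := by
  rw [tr, res_apply, sO_apply, map_smul', polar_smul_right, smul_eq_mul, polar_comm QK x v]
  module

theorem tr_fix (t c : K) : (tr hS fr t).1 (c • v) = c • v := by
  rw [tr_apply, polar_smul_left, fr.hvw, polar_smul_right, polar_self', fr.hv]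
  simp

theorem tr_y (t b : K) : (tr hS fr t).1 (b • y) = b • y + (-(t * t * QK w * b)) • v - (t * b) • w := by
  rw [tr_apply, polar_smul_left, fr.hyw, polar_smul_right, fr.hvy]
  simp

theorem tr_perp (t : K) {x : V} (hx : polar QK v x = 0) :
    (tr hS fr t).1 x = x + (t * polar QK x w) • v := by
  rw [tr_apply, hx]
  simp

theorem tr_add (s t : K) : tr hS fr s * tr hS fr t = tr hS fr (s + t) := by
  rw [tr, tr, ← map_mul, sO_mul, tr]
  congr 1
  exact sO_congr _ _ _ (add_smul s t w).symm

theorem tr_zero : tr hS fr 0 = 1 := by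
  rw [tr, sO_congr fr.hv _ (by simp [polar]) (zero_smul K w), sO_zero, map_one]

end tr

namespace Setting

/-- a hyperbolic scaling by a square fixing the third vector of the frame -/
theorem torus {v y w : V} (hS : Setting Q QK l) (fr : Frame QK v y w) {c : K} (hc : c ≠ 0) :
    ∃ h ∈ commutator (oG QK), h.1 v = (c * c) • v ∧ h.1 y = (c * c)⁻¹ • y ∧ h.1 w = w := by
  haveI := hS.finV
  have hu : QK w ≠ 0 := fr.hw
  have hu' : QK (c • w) ≠ 0 := by rw [map_smul']; exact mul_ne_zero (mul_ne_zero hc hc) hu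
  have wm : ∀ {u : V} (h1 : polar QK v u = 0) (h2 : polar QK y u = 0) (h3 : QK u ≠ 0),
      rPair fr.hv fr.hy fr.hvy h3 * rO h3 ∈ commutator (oG QK) := fun h1 h2 h3 => by
    rw [← weyl_eq fr.hv fr.hy fr.hvy h1 h2 h3]
    exact mul_mem (mul_mem (hS.sO_mem _ _) (hS.sO_mem _ _)) (hS.sO_mem _ _)
  refine ⟨_, mul_mem (wm (polar_perp_smul fr.hvw c) (polar_perp_smul fr.hyw c) hu') (wm fr.hvw fr.hyw hu), ?_, ?_, ?_⟩
  all_goals
    simp only [rPair, oG_mul_apply, rO_apply, Q_pair fr.hv fr.hy fr.hvy, polar_add_right, polar_add_left,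
      polar_smul_right, polar_smul_left, polar_sub_left, smul_eq_mul, polar_self', map_smul', fr.hv, fr.hy, fr.hvy,
      fr.hvw, fr.hyw, polar_comm QK y v, polar_comm QK w v, polar_comm QK w y]
    match_scalars <;> field_simp <;> ring

/-- an additive map carrying cone lines into lines carries all lines into lines -/
theorem semilinear (hS : Setting Q QK l) (g : V ≃ₗ[F] V) (h : ∀ v, QK v = 0 → ∀ c : K, g (c • v) ∈ K ∙ g v) (x : V)
    (k : K) : g (k • x) ∈ K ∙ g x := by
  obtain ⟨v, hv0, hv⟩ := hS.exists_cone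
  obtain ⟨y, w, fr⟩ := hS.exists_frame hv0 hv
  set θ := QK w with hθ
  choose G hG using fun c : K => ExtOrth.mem_one (h v hv c)
  choose G' hG' using fun c : K => ExtOrth.mem_one (h y fr.hy c)
  have hgv : g v ≠ 0 := fun e => hv0 (g.injective (by rw [e, map_zero]))
  have hgy : g y ≠ 0 := fun e => fr.y_ne (g.injective (by rw [e, map_zero]))
  have hgw : g w ≠ 0 := fun e => fr.w_ne (g.injective (by rw [e, map_zero]))
  have hsur : Function.Surjective G := Finite.surjective_of_injective fun a b e =>
    smul_left_injective K hv0 (g.injective (by rw [hG, hG, e]))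
  have hsur' : Function.Surjective G' := Finite.surjective_of_injective fun a b e =>
    smul_left_injective K fr.y_ne (g.injective (by rw [hG', hG', e]))
  have zero_of : ∀ a b c : K, a • v + b • y + c • w = 0 → a = 0 ∧ b = 0 ∧ c = 0 := fun a b c e => by
    obtain ⟨e1, e2, e3, -⟩ := fr.eval a b c
    rw [e] at e1 e2 e3
    have z : ∀ u : V, polar QK u 0 = 0 := fun u => by simp [polar]
    rw [z] at e1 e2 e3
    exact ⟨e2.symm, e1.symm, (mul_eq_zero.1 e3.symm).resolve_left (mul_ne_zero hS.twoK fr.hw)⟩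
  have hG0 : G 0 = 0 := by
    have := hG 0
    rw [zero_smul, map_zero] at this
    exact (smul_eq_zero.1 this.symm).resolve_right hgv
  have hG'0 : G' 0 = 0 := by
    have := hG' 0
    rw [zero_smul, map_zero] at this
    exact (smul_eq_zero.1 this.symm).resolve_right hgy
  have hind : ∀ a b c s : K, s ≠ 0 → a • g v + b • g y + c • g (s • w) = 0 → a = 0 ∧ b = 0 ∧ c = 0 := by
    intro a b c s hs e
    have hc : c = 0 := by
      by_contra hc
      obtain ⟨a', ha'⟩ := hsur (-(c⁻¹ * a))
      obtain ⟨b', hb'⟩ := hsur' (-(c⁻¹ * b))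
      have hz : s • w = a' • v + b' • y := g.injective (by
        have := congrArg (c⁻¹ • ·) e
        simp only [smul_add, smul_smul, inv_mul_cancel₀ hc, one_smul, smul_zero] at this
        rw [map_add, hG, hG', ha', hb']
        linear_combination (norm := module) this)
      exact hs (zero_of (-a') (-b') s (by linear_combination (norm := module) hz)).2.2
    subst hc
    obtain ⟨a', ha'⟩ := hsur a
    obtain ⟨b', hb'⟩ := hsur' b
    rw [zero_smul, add_zero, ← ha', ← hb', ← hG, ← hG', ← map_add, LinearEquiv.map_eq_zero_iff] at e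
    obtain ⟨h1, h2, -⟩ := zero_of a' b' 0 (by rw [e, zero_smul, add_zero])
    exact ⟨by rw [← ha', h1, hG0], by rw [← hb', h2, hG'0], rfl⟩
  have hline : ∀ (c s : K), ∃ d : K, G' c • g y + g (c • s • w) - G (c * (s * s * θ)) • g v =
      d • (g y + g (s • w) - G (s * s * θ) • g v) := fun c s => by
    have hcone : QK (y + s • w + (-(s * s * θ)) • v) = 0 := by
      have e := (fr.eval (-(s * s * θ)) 1 s).2.2.2
      rw [show (-(s * s * θ)) • v + (1 : K) • y + s • w = y + s • w + (-(s * s * θ)) • v by module] at e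
      rw [e, hθ]; ring
    obtain ⟨d, hd⟩ := ExtOrth.mem_one (h _ hcone c)
    refine ⟨d, ?_⟩
    rw [smul_add, smul_add, smul_smul c (-(s * s * θ)) v, mul_neg, map_add, map_add, hG', neg_smul, map_neg, hG,
      map_add, map_add, neg_smul, map_neg, hG] at hd
    linear_combination (norm := module) hd
  have key : ∀ c s : K, s ≠ 0 →
      g (c • s • w) = G' c • g (s • w) ∧ G (c * (s * s * θ)) = G' c * G (s * s * θ) := by
    intro c s hs
    obtain ⟨d, hd⟩ := hline c s
    obtain ⟨d', hd'⟩ := hline c (-s)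
    rw [neg_smul, smul_neg, map_neg, map_neg, neg_mul_neg] at hd'
    obtain ⟨e1, e2, e3⟩ := hind (-(2 * G (c * (s * s * θ))) + (d + d') * G (s * s * θ)) (2 * G' c - d - d') (d' - d) s hs
      (by linear_combination (norm := module) hd + hd')
    have hdd : d' = d := sub_eq_zero.1 e3
    subst hdd
    have hd2 : d' = G' c := mul_left_cancel₀ hS.twoK (by linear_combination -e2)
    subst hd2
    have h4 : G (c * (s * s * θ)) = G' c * G (s * s * θ) := mul_left_cancel₀ hS.twoK (by linear_combination -e1)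
    refine ⟨?_, h4⟩
    rw [h4] at hd
    linear_combination (norm := module) hd
  have hw1 : ∀ c : K, g (c • w) = G' c • g w := fun c => by simpa using (key c 1 one_ne_zero).1
  have hmul : ∀ c s : K, G' (c * s) = G' c * G' s := fun c s => by
    rcases eq_or_ne s 0 with rfl | hs
    · rw [mul_zero, hG'0, mul_zero]
    have h1 := (key c s hs).1
    rw [smul_smul, hw1, hw1, smul_smul] at h1
    exact smul_left_injective K hgw h1
  have hG1 : G 1 = 1 := by
    have := hG 1
    rw [one_smul] at this
    exact smul_left_injective K hgv (show G 1 • g v = (1 : K) • g v by rw [one_smul]; exact this.symm)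
  have hGθ : G' θ⁻¹ * G θ = 1 := by
    have := (key θ⁻¹ 1 one_ne_zero).2
    rw [one_mul, one_mul, inv_mul_cancel₀ fr.hw, hG1] at this
    exact this.symm
  have hGG : ∀ c, G c = G' c := fun c => by
    have := (key (c * θ⁻¹) 1 one_ne_zero).2
    rw [one_mul, one_mul, inv_mul_cancel_right₀ fr.hw, hmul, mul_assoc, hGθ, mul_one] at this
    exact this
  have hx := fr.decomp hS x
  refine Submodule.mem_span_singleton.2 ⟨G' k, ?_⟩
  conv_lhs => rw [hx, map_add, map_add, hG, hG', hw1, hGG]
  conv_rhs => rw [hx, smul_add, smul_add, smul_smul, smul_smul, smul_smul, map_add, map_add, hG, hG', hw1, hGG, hmul,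
    hmul, hmul]
  module

end Setting

end Cfsg.Agent.ClassicalMax.ExtOrth3
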