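import Cfsg.Agent.ClassicalMax.ExtOrth3.Roots

/-!
Overgroups in an orthogonal group over `F` of the commutator subgroup of a ternary orthogonal group over an extension
field of prime degree at least five contain every Siegel transformation as soon as one element is not semilinear.
-/

set_option autoImplicit false
set_option linter.unusedSectionVars false
set_option linter.style.haveILetI false

namespace Cfsg.Agent.ClassicalMax.ExtOrth3

open Module QuadraticMap Cfsg.Agent.Classical Cfsg.Agent.Classical.Quad Cfsg.Agent.ClassicalMax.RootPlanes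

variable {F K V : Type*} [Field F] [Field K] [Algebra F K] [AddCommGroup V] [Module F V] [Module K V]
  [IsScalarTower F K V] [Finite K] [Finite F] [FiniteDimensional F V] {Q : QuadraticForm F V}
  {QK : QuadraticForm K V} {l : K →ₗ[F] F} {H : Subgroup (oG Q)} {g : oG Q} {x v a : V}

open ExtOrth (img line mem_img apply_mem_img smul_mem_line mem_one)

theorem finrank_img (hS : Setting Q QK l) (g : oG Q) {x : V} (hx : x ≠ 0) :
    finrank F (img K g x) = finrank F K := by
  haveI := hS.fin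
  let d : K →ₗ[F] V := (g.1 : V →ₗ[F] V).comp ((LinearMap.toSpanSingleton K V x).restrictScalars F)
  have he : img K g x = LinearMap.range d := Submodule.ext fun w => mem_img
  rw [he, LinearMap.finrank_range_of_inj fun a b e => smul_left_injective K hx (g.1.injective e)]

theorem finrank_line (hS : Setting Q QK l) {v : V} (hv : v ≠ 0) :
    finrank F (line (K := K) F v) = finrank F K := by
  haveI := hS.fin
  let d : K →ₗ[F] V := (LinearMap.toSpanSingleton K V v).restrictScalars F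
  have he : line (K := K) F v = LinearMap.range d := Submodule.ext fun w => by
    rw [ExtOrth.mem_line, Submodule.mem_span_singleton, LinearMap.mem_range]; rfl
  rw [he, LinearMap.finrank_range_of_inj fun a b e => smul_left_injective K hv e]

theorem img_sing (hS : Setting Q QK l) {g : oG Q} {x : V} (hx : QK x = 0) {w : V} (hw : w ∈ img K g x) : Q w = 0 := by
  obtain ⟨c, rfl⟩ := mem_img.1 hw
  rw [g.2]; exact hS.cone hx c

theorem img_polar (hS : Setting Q QK l) {g : oG Q} {x : V} (hx : QK x = 0) {a b : V} (ha : a ∈ img K g x)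
    (hb : b ∈ img K g x) : l (polar QK a b) = 0 := by
  have h1 := img_sing hS hx ((img K g x).add_mem ha hb)
  rw [map_add', img_sing hS hx ha, img_sing hS hx hb, zero_add, zero_add, hS.polar_eq] at h1
  exact h1

/-- root elements inside all cone lines generate everything -/
theorem eo_of_all (hS : Setting Q QK l)
    (hall : ∀ e, e ≠ 0 → QK e = 0 → ∀ c d : K, Pl H (c • e) (d • e)) : eo Q ≤ H := by
  classical
  haveI := hS.fin
  haveI := hS.finV
  obtain ⟨B, hB⟩ : ∃ B : K, ∀ t : F, algebraMap F K t ≠ B := by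
    by_contra hcon
    push Not at hcon
    have : (⊤ : Submodule F K) ≤ F ∙ (1 : K) := fun x _ => by
      obtain ⟨t, rfl⟩ := hcon x
      exact Submodule.mem_span_singleton.2 ⟨t, by rw [Algebra.smul_def, mul_one]⟩
    have h1 := Submodule.finrank_mono this
    have h2 := finrank_span_le_card (R := F) ({1} : Set K)
    rw [Set.toFinset_singleton, Finset.card_singleton] at h2
    rw [finrank_top] at h1
    have h3 : finrank F (F ∙ (1 : K) : Submodule F K) ≤ 1 := h2
    have := hS.three_le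
    omega
  obtain ⟨κ, hκ1, hκB, hκBB⟩ : ∃ κ : K, l κ = 0 ∧ l (κ * B) = 0 ∧ l (κ * (B * B)) ≠ 0 := by
    obtain ⟨ψ, hψ1, hψ2⟩ := Submodule.exists_dual_map_eq_bot_of_notMem
      (ExtOrth.sq_notMem hS.prime (by have := hS.three_le; omega) hB) inferInstance
    obtain ⟨κ, hκ⟩ := hS.rep ψ
    have hz1 : ∀ x ∈ Submodule.span F ({1, B} : Set K), ψ x = 0 := fun x hx =>
      (Submodule.mem_bot F).1 (hψ2 ▸ Submodule.mem_map_of_mem hx)
    refine ⟨κ, ?_, ?_, ?_⟩
    · rw [← one_mul κ, hκ]; exact hz1 _ (Submodule.subset_span (Or.inl rfl))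
    · rw [mul_comm, hκ]; exact hz1 _ (Submodule.subset_span (Or.inr rfl))
    · rw [mul_comm, hκ]; exact hψ1
  have hκ0 : κ ≠ 0 := fun e => hκBB (by rw [e, zero_mul, map_zero])
  -- the orthogonal over `K`
  have hperp : ∀ {v y w : V}, Frame QK v y w → ∀ z, polar QK v z = 0 → ∀ he : Q v = 0, z ∈ tS H he := by
    intro v y w fr z hz he
    have hKv : ∀ c : K, c • v ∈ tS H he := fun c => mem_tS (by simpa using hall v fr.v_ne fr.hv 1 c)
    have hy : ∀ s : K, κ • ((-(QK w * (s * s))) • v + (1 : K) • y + s • w) ∈ tS H he := fun s => by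
      set e := (-(QK w * (s * s))) • v + (1 : K) • y + s • w with hed
      obtain ⟨hve, -, -, hec⟩ := fr.eval (-(QK w * (s * s))) 1 s
      replace hec : QK e = 0 := by rw [hed, hec]; ring
      replace hve : polar QK v e = 1 := hve
      have he0 : e ≠ 0 := fun e' => by rw [e'] at hve; simp [polar] at hve
      refine mem_tS ((show Pl H v (B • v) by simpa using hall v fr.v_ne fr.hv 1 B).rule (hall e he0 hec (κ * B) κ)
        ?_ ?_ ?_ ?_)
      · rw [hS.polar_eq, polar_smul_right, hve, smul_eq_mul, mul_one, hκB]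
      · rw [hS.polar_eq, polar_smul_right, hve, smul_eq_mul, mul_one, hκ1]
      · rw [hS.polar_eq, polar_smul_left, polar_smul_right, hve, smul_eq_mul, smul_eq_mul, mul_one, mul_comm, hκB]
      · rw [hS.polar_eq, polar_smul_left, polar_smul_right, hve, smul_eq_mul, smul_eq_mul, mul_one, mul_left_comm]
        exact hκBB
    have hw : ∀ s : K, (κ * s) • w ∈ tS H he := fun s => by
      have h1 := (tS H he).sub_mem (hy s) (hy 0)
      have h2 := (tS H he).sub_mem h1 (hKv (-(κ * (QK w * (s * s)))))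
      convert h2 using 1
      module
    obtain ⟨c, d, rfl⟩ := fr.perp hS hz
    have := hw (κ⁻¹ * d)
    rw [mul_inv_cancel_left₀ hκ0] at this
    exact Submodule.add_mem _ (hKv c) this
  have hfull : ∀ e, e ≠ 0 → QK e = 0 → Full H e := by
    intro v hv0 hv
    obtain ⟨y, w, fr⟩ := hS.exists_frame hv0 hv
    have he : Q v = 0 := by simpa using hS.cone hv 1
    let WF : Submodule F V := (K ∙ w).restrictScalars F
    have hWd : 3 ≤ finrank F WF := by
      show 3 ≤ finrank F (line (K := K) F w)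
      rw [finrank_line hS fr.w_ne]
      have := hS.three_le
      omega
    have hnd : (polarBilin (Q.comp WF.subtype)).Nondegenerate := nondeg_of fun z hz => by
      obtain ⟨s, hs⟩ := mem_one (K := K) z.2
      have : s * (2 * QK w) = 0 := hS.sep0 fun c => by
        have := hz ⟨c • w, Submodule.mem_span_singleton.2 ⟨c, rfl⟩⟩
        change polar Q (z : V) (c • w) = 0 at this
        rw [hs, hS.polar_eq, polar_smul_left, polar_smul_right, polar_self', smul_eq_mul, smul_eq_mul] at this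
        rwa [mul_left_comm c s]
      refine Subtype.ext ?_
      rw [hs, (mul_eq_zero.1 this).resolve_right (mul_ne_zero hS.twoK fr.hw), zero_smul]
      rfl
    obtain ⟨z₁, hz₁0, hz₁⟩ := exists_singular (Q.comp WF.subtype) hWd
    obtain ⟨z₂, hz₂, hz₁₂⟩ := exists_hyp_pair hnd hz₁0 hz₁
    obtain ⟨p₁, hp₁⟩ := mem_one (K := K) z₁.2
    obtain ⟨p₂, hp₂⟩ := mem_one (K := K) z₂.2
    refine full_of_tS he fun x hx => ?_
    rw [fr.decomp hS x]
    refine Submodule.add_mem _ (Submodule.add_mem _ ?_ ?_) ?_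
    · exact mem_tS (by simpa using hall v hv0 hv 1 (polar QK y x))
    swap
    · exact hperp fr _ (polar_perp_smul fr.hvw _) he
    set c := polar QK v x
    have hc : l c = 0 := by rw [← hS.polar_eq, hx]
    rcases eq_or_ne c 0 with hc0 | hc0
    · rw [hc0, zero_smul]; exact Submodule.zero_mem _
    have fr2 := fr.symm.smul hc0
    have hcy : Q (c • y) = 0 := hS.cone fr.hy c
    have q1 : Q (z₁ : V) = 0 := hz₁
    have q2 : Q (z₂ : V) = 0 := hz₂
    have h1 : Pl H v (z₁ : V) := ExtOrth.pl_of_tS (hperp fr _ (by rw [hp₁, polar_smul_right, fr.hvw, smul_zero]) he) q1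
    have h2 : Pl H (z₂ : V) (c • y) :=
      (ExtOrth.pl_of_tS (hperp fr2 _ (by rw [hp₂, polar_smul_right, fr2.hvw, smul_zero]) hcy) q2).symm
    refine mem_tS (h1.rule h2 ?_ ?_ ?_ ?_)
    · rw [hS.polar_eq, hp₂, polar_smul_right, fr.hvw, smul_zero, map_zero]
    · rw [hS.polar_eq, polar_smul_right, fr.hvy, smul_eq_mul, mul_one, hc]
    · rw [hS.polar_eq, polar_smul_right, hp₁, polar_smul_left, polar_comm QK w y, fr.hyw, smul_zero, smul_zero, map_zero]
    · intro e
      have : polar Q (z₁ : V) (z₂ : V) = 1 := hz₁₂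
      rw [e] at this
      exact zero_ne_one this
  obtain ⟨v, hv0, hv⟩ := hS.exists_cone
  obtain ⟨y, w, fr⟩ := hS.exists_frame hv0 hv
  obtain ⟨c, hc⟩ := hS.exists_one (one_ne_zero (α := K))
  have hc0 : c ≠ 0 := fun e => by rw [e, zero_mul, map_zero] at hc; exact zero_ne_one hc
  refine eo_le hS.nondeg (by rw [hS.finrankV]; have := hS.three_le; omega) (hfull v hv0 hv)
    (hfull (c • y) (smul_ne_zero hc0 fr.y_ne) (by rw [map_smul', fr.hy, mul_zero])) ?_
  rw [hS.polar_eq, polar_smul_right, fr.hvy, smul_eq_mul, hc]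
  exact one_ne_zero

variable [Fact (5 ≤ finrank F K)]

/-- an image of a cone line sharing a cone point with a line other than itself -/
structure Tr (QK : QuadraticForm K V) (H : Subgroup (oG Q)) (g : oG Q) (x v : V) : Prop where
  gH : g ∈ H
  x0 : x ≠ 0
  xc : QK x = 0
  v0 : v ≠ 0
  vc : QK v = 0
  vm : v ∈ img K g x
  nl : ∃ c : K, g.1 (c • x) ∉ K ∙ v

/-- the dimension of the intersection -/
noncomputable def dimT (K : Type*) [Field K] [Algebra F K] [Module K V] [IsScalarTower F K V] (g : oG Q) (x v : V) : ℕ :=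
  finrank F (img K g x ⊓ line (K := K) F v : Submodule F V)

/-- the triple has largest dimension -/
def IsMax (QK : QuadraticForm K V) (H : Subgroup (oG Q)) (g : oG Q) (x v : V) : Prop :=
  ∀ g' x' v', Tr QK H g' x' v' → dimT K g' x' v' ≤ dimT K g x v

theorem exists_tr (hS : Setting Q QK l) (hle : Le hS H) (hne : ∀ v, v ≠ 0 → ∀ hv : QK v = 0, lin hv H ≠ ⊥)
    (hg : g ∈ H) {u : V} (hu0 : u ≠ 0) (hu : QK u = 0) (hgu : QK (g.1 u) ≠ 0) : ∃ g x v, Tr QK H g x v := by
  classical
  haveI := hS.fin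
  by_contra hno
  push Not at hno
  set C := img K g u with hC
  set a := g.1 u with had
  have haC : a ∈ C := by simpa [had] using apply_mem_img (K := K) g u 1
  have ha0 : a ≠ 0 := fun e => hgu (by rw [e, map_zero])
  have hcone : ∀ w ∈ C, QK w = 0 → w = 0 := fun w hw hwc => by
    by_contra hw0
    refine hno g u w ⟨hg, hu0, hu, hw0, hwc, hw, 1, fun hm => ?_⟩
    obtain ⟨t, ht⟩ := mem_one hm
    rw [one_smul, ← had] at ht
    exact hgu (by rw [ht, map_smul', hwc, mul_zero])
  obtain ⟨c₀, hc₀, hc₀a⟩ : ∃ c ∈ C, ∀ f : F, c ≠ f • a := by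
    by_contra hcon
    push Not at hcon
    have h1 : C ≤ F ∙ a := fun c hc => by
      obtain ⟨f, rfl⟩ := hcon c hc
      exact Submodule.smul_mem _ _ (Submodule.mem_span_singleton_self a)
    have h2 := Submodule.finrank_mono h1
    have h3 := finrank_span_le_card (R := F) ({a} : Set V)
    rw [Set.toFinset_singleton, Finset.card_singleton] at h3
    rw [finrank_img hS g hu0] at h2
    have h4 : finrank F (F ∙ a : Submodule F V) ≤ 1 := h3
    have := (Fact.out : 5 ≤ finrank F K)
    omega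
  have hprop : ∀ v', v' ≠ 0 → QK v' = 0 → polar QK v' a ≠ 0 → ∃ f : F, f • polar QK v' a = polar QK v' c₀ := by
    intro v' hv'0 hv' hba
    obtain ⟨y', w', fr⟩ := hS.exists_frame hv'0 hv'
    refine lin_kill hS hle fr (hne v' hv'0 hv') hba fun ν hν hνa => ?_
    obtain ⟨o, ho, e⟩ := exists_root hν
    set g' := g⁻¹ * o * g
    have hoa : o.1 a = a := by rw [e, hνa, zero_smul, add_zero]
    have hx' : g'.1 u = u := by
      rw [show g' = g⁻¹ * o * g from rfl, oG_mul_apply, oG_mul_apply, ← had, hoa, had, oG_inv_apply]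
    have hline : ∀ c : K, g'.1 (c • u) ∈ K ∙ u := fun c => by
      by_contra hc
      exact hno g' u u ⟨mul_mem (mul_mem (inv_mem hg) ho) hg, hu0, hu, hu0, hu,
        mem_img.2 ⟨1, by rw [one_smul, hx']⟩, c, hc⟩
    obtain ⟨d, hd⟩ := mem_img.1 hc₀
    obtain ⟨d', hd'⟩ := mem_one (hline d)
    have hoc : o.1 c₀ ∈ C := mem_img.2 ⟨d', by
      rw [← hd', show g' = g⁻¹ * o * g from rfl, oG_mul_apply, oG_mul_apply, hd, oG_apply_inv]⟩
    have h1 := C.sub_mem hoc hc₀
    rw [e, add_sub_cancel_left] at h1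
    exact (smul_eq_zero.1 (hcone _ h1 (by rw [map_smul', hv', mul_zero]))).resolve_right hv'0
  obtain ⟨v, hv0, hv⟩ := hS.exists_cone
  obtain ⟨y, w, fr⟩ := hS.exists_frame hv0 hv
  let e : K → V := fun s => (-(QK w * (s * s))) • v + (1 : K) • y + s • w
  have he : ∀ s, QK (e s) = 0 ∧ e s ≠ 0 := fun s => by
    obtain ⟨h1, -, -, h4⟩ := fr.eval (-(QK w * (s * s))) 1 s
    refine ⟨by rw [show e s = _ from rfl, h4]; ring, fun h0 => ?_⟩
    rw [show (-(QK w * (s * s))) • v + (1 : K) • y + s • w = e s from rfl, h0] at h1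
    simp [polar] at h1
  have hev : ∀ s z, polar QK (e s) z = -(QK w * (s * s)) * polar QK v z + polar QK y z + s * polar QK w z :=
    fun s z => by simp [e, polar_add_left, polar_smul_left]
  haveI := Fintype.ofFinite K
  haveI := Fintype.ofFinite F
  let roots : V → Finset K := fun z => Finset.univ.filter fun s => polar QK (e s) z = 0
  have hroots : ∀ z, z ≠ 0 → (roots z).card ≤ 2 := fun z hz => by
    by_contra hlt
    push Not at hlt
    obtain ⟨s₁, s₂, s₃, h1, h2, h3, h12, h13, h23⟩ := Finset.two_lt_card_iff.1 hlt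
    simp only [roots, Finset.mem_filter, Finset.mem_univ, true_and, hev] at h1 h2 h3
    have e1 : polar QK w z - QK w * polar QK v z * (s₁ + s₂) = 0 :=
      mul_left_cancel₀ (sub_ne_zero.2 h12) (by linear_combination h1 - h2)
    have e2 : polar QK w z - QK w * polar QK v z * (s₁ + s₃) = 0 :=
      mul_left_cancel₀ (sub_ne_zero.2 h13) (by linear_combination h1 - h3)
    have e3 : polar QK v z = 0 := by
      have e4 : (s₃ - s₂) * (QK w * polar QK v z) = 0 := by linear_combination e1 - e2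
      exact (mul_eq_zero.1 ((mul_eq_zero.1 e4).resolve_left (sub_ne_zero.2 h23.symm))).resolve_left fr.hw
    have e5 : polar QK w z = 0 := by linear_combination e1 + QK w * (s₁ + s₂) * e3
    have e6 : polar QK y z = 0 := by linear_combination h1 + QK w * (s₁ * s₁) * e3 - s₁ * e5
    refine hz ?_
    rw [fr.decomp hS z, e3, e5, e6, zero_div, zero_smul, zero_smul, zero_smul, add_zero, add_zero]
  let zf : Option F → V := fun o => o.elim a fun f => c₀ - f • a
  have hzf : ∀ o, zf o ≠ 0 := fun o => by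
    cases o with
    | none => exact ha0
    | some f => exact sub_ne_zero.2 (hc₀a f)
  have hcover : (Finset.univ : Finset K) ⊆ Finset.univ.biUnion fun o => roots (zf o) := fun s _ => by
    rw [Finset.mem_biUnion]
    by_cases h0 : polar QK (e s) a = 0
    · exact ⟨none, Finset.mem_univ _, Finset.mem_filter.2 ⟨Finset.mem_univ _, h0⟩⟩
    · obtain ⟨f, hf⟩ := hprop _ (he s).2 (he s).1 h0
      refine ⟨some f, Finset.mem_univ _, Finset.mem_filter.2 ⟨Finset.mem_univ _, ?_⟩⟩
      show polar QK (e s) (c₀ - f • a) = 0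
      rw [polar_sub_right, ← algebraMap_smul K f a, polar_smul_right, smul_eq_mul, ← Algebra.smul_def, hf, sub_self]
  have hcount := (Finset.card_le_card hcover).trans (Finset.card_biUnion_le_card_mul _ _ 2 fun o _ => hroots _ (hzf o))
  rw [Finset.card_univ, Finset.card_univ, Fintype.card_option, Module.card_eq_pow_finrank (K := F) (V := K)] at hcount
  set q := Fintype.card F
  have hq : 2 ≤ q := Fintype.one_lt_card
  have h5 : q ^ 5 ≤ q ^ finrank F K := Nat.pow_le_pow_right (by omega) (Fact.out : 5 ≤ finrank F K)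
  have h6 : 16 * q ≤ q ^ 5 := by
    have := Nat.mul_le_mul_right q (Nat.pow_le_pow_left hq 4)
    rw [pow_succ]
    simpa using this
  omega

theorem exists_max (h : Tr QK H g x v) : ∃ g x v, Tr QK H g x v ∧ IsMax QK H g x v := by
  classical
  have hP : ∃ d, ∃ g x v, Tr QK H g x v ∧ dimT K g x v + d = finrank F V :=
    ⟨finrank F V - dimT K g x v, g, x, v, h, by have : dimT K g x v ≤ finrank F V := Submodule.finrank_le _; omega⟩
  obtain ⟨g₁, x₁, v₁, h₁, e₁⟩ := Nat.find_spec hP
  refine ⟨g₁, x₁, v₁, h₁, fun g' x' v' h' => ?_⟩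
  have hle : dimT K g' x' v' ≤ finrank F V := Submodule.finrank_le _
  have := Nat.find_min' hP (m := finrank F V - dimT K g' x' v') ⟨g', x', v', h', by omega⟩
  omega

namespace Tr

theorem v_eq (h : Tr QK H g x v) : ∃ d : K, d ≠ 0 ∧ g.1 (d • x) = v := by
  obtain ⟨d, hd⟩ := mem_img.1 h.vm
  exact ⟨d, fun e => h.v0 (by rw [← hd, e, zero_smul, map_zero]), hd⟩

theorem not_line_le (hS : Setting Q QK l) (h : Tr QK H g x v) : ∃ c₀ : K, c₀ • v ∉ img K g x := by
  by_contra hcon
  push Not at hcon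
  obtain ⟨c, hc⟩ := h.nl
  refine hc ?_
  have he : line (K := K) F v = img K g x := Submodule.eq_of_le_of_finrank_eq (fun u hu => by
    obtain ⟨d, rfl⟩ := mem_one (K := K) hu
    exact hcon d) (by rw [finrank_img hS g h.x0, finrank_line hS h.v0])
  exact (ExtOrth.mem_line).1 (he.symm ▸ apply_mem_img g x c : g.1 (c • x) ∈ line (K := K) F v)

/-- moving by an element fixing the line -/
theorem move (h : Tr QK H g x v) {T : oG Q} (hT : T ∈ H) (hTv : ∀ c : K, T.1 (c • v) = c • v)
    (hne : ∃ c ∈ img K g x, T.1 c ∉ img K g x) :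
    Tr QK H (g⁻¹ * T * g) x ((g⁻¹).1 v) ∧ ∀ u ∈ img K g x, u ∈ line (K := K) F v →
      (g⁻¹).1 u ∈ img K (g⁻¹ * T * g) x ∧ (g⁻¹).1 u ∈ line (K := K) F ((g⁻¹).1 v) := by
  obtain ⟨d, hd0, hd⟩ := h.v_eq
  have hv' : (g⁻¹).1 v = d • x := by rw [← hd, oG_inv_apply]
  have hkey : ∀ u ∈ img K g x, u ∈ line (K := K) F v →
      (g⁻¹).1 u ∈ img K (g⁻¹ * T * g) x ∧ (g⁻¹).1 u ∈ line (K := K) F ((g⁻¹).1 v) := fun u hu hu' => by
    obtain ⟨k, hk⟩ := mem_img.1 hu
    obtain ⟨k', hk'⟩ := mem_one (K := K) hu'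
    have e : (g⁻¹).1 u = k • x := by rw [← hk, oG_inv_apply]
    refine ⟨mem_img.2 ⟨k, ?_⟩, ?_⟩
    · rw [oG_mul_apply, oG_mul_apply, hk, hk', hTv]
    · rw [e, hv', ExtOrth.mem_line, Submodule.mem_span_singleton]
      exact ⟨k / d, by rw [smul_smul, div_mul_cancel₀ _ hd0]⟩
  refine ⟨⟨mul_mem (mul_mem (inv_mem h.gH) hT) h.gH, h.x0, h.xc, by rw [hv']; exact smul_ne_zero hd0 h.x0,
    by rw [hv', map_smul', h.xc, mul_zero], (hkey v h.vm (by simpa using smul_mem_line (F := F) v (1 : K))).1, ?_⟩, hkey⟩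
  obtain ⟨c, hc, hTc⟩ := hne
  obtain ⟨k, hk⟩ := mem_img.1 hc
  refine ⟨k, fun hm => hTc ?_⟩
  obtain ⟨s, hs⟩ := mem_one hm
  rw [oG_mul_apply, oG_mul_apply, hk, hv', smul_smul] at hs
  exact mem_img.2 ⟨s * d, by rw [← hs, oG_apply_inv]⟩

theorem dich (h : Tr QK H g x v) (hmax : IsMax QK H g x v) {T : oG Q} (hT : T ∈ H)
    (hTv : ∀ c : K, T.1 (c • v) = c • v) {c : V} (hc : c ∈ img K g x) (hcl : c ∉ line (K := K) F v)
    (hTc : T.1 c ∈ img K g x) : ∀ u ∈ img K g x, T.1 u ∈ img K g x := by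
  by_contra hcon
  push Not at hcon
  obtain ⟨h', hkey⟩ := h.move hT hTv hcon
  obtain ⟨d, hd0, hd⟩ := h.v_eq
  set I : Submodule F V := img K g x ⊓ line (K := K) F v
  have hTl : T.1 c ∉ line (K := K) F v := fun hm => by
    obtain ⟨s, hs⟩ := mem_one (K := K) hm
    exact hcl ((T.1.injective (by rw [hs, hTv]) : c = s • v) ▸ smul_mem_line v s)
  have hlt : I < I ⊔ (F ∙ T.1 c) := lt_of_le_of_ne le_sup_left fun e =>
    hTl ((e.symm ▸ Submodule.mem_sup_right (Submodule.mem_span_singleton_self _) : T.1 c ∈ I).2)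
  have hsub : (I ⊔ (F ∙ T.1 c)).map ((g⁻¹).1 : V →ₗ[F] V) ≤
      img K (g⁻¹ * T * g) x ⊓ line (K := K) F ((g⁻¹).1 v) := by
    rw [Submodule.map_sup, Submodule.map_span, Set.image_singleton]
    refine sup_le ?_ ((Submodule.span_singleton_le_iff_mem _ _).2 ⟨?_, ?_⟩)
    · rintro _ ⟨u, hu, rfl⟩
      exact hkey u hu.1 hu.2
    · obtain ⟨k, hk⟩ := mem_img.1 hc
      exact mem_img.2 ⟨k, by rw [oG_mul_apply, oG_mul_apply, hk]; rfl⟩
    · obtain ⟨k, hk⟩ := mem_img.1 hTc
      show (g⁻¹).1 (T.1 c) ∈ line (K := K) F ((g⁻¹).1 v)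
      rw [← hk, oG_inv_apply, show (g⁻¹).1 v = d • x by rw [← hd, oG_inv_apply], ExtOrth.mem_line,
        Submodule.mem_span_singleton]
      exact ⟨k / d, by rw [smul_smul, div_mul_cancel₀ _ hd0]⟩
  have h1 := Submodule.finrank_lt_finrank_of_lt hlt
  have h2 := Submodule.finrank_mono hsub
  have h3 : finrank F ((I ⊔ (F ∙ T.1 c)).map ((g⁻¹).1 : V →ₗ[F] V)) = finrank F ↥(I ⊔ (F ∙ T.1 c)) :=
    (LinearEquiv.finrank_map_eq (g⁻¹).1 _)
  have h4 : dimT K (g⁻¹ * T * g) x ((g⁻¹).1 v) ≤ dimT K g x v := hmax _ _ _ h'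
  rw [h3] at h2
  simp only [dimT] at h4
  exact absurd (h1.trans_le (h2.trans h4)) (lt_irrefl _)

/-- a triple of largest dimension with a vector of the image orthogonal to the cone point off its line -/
theorem exists_orth_vec (hS : Setting Q QK l) (hle : Le hS H) (hne : ∀ v, v ≠ 0 → ∀ hv : QK v = 0, lin hv H ≠ ⊥)
    (h : Tr QK H g x v) (hmax : IsMax QK H g x v) : ∃ g x v a, Tr QK H g x v ∧ IsMax QK H g x v ∧
      a ∈ img K g x ∧ a ∉ line (K := K) F v ∧ polar QK v a = 0 := by
  haveI := hS.fin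
  by_cases hA : ∃ a ∈ img K g x, a ∉ line (K := K) F v ∧ polar QK v a = 0
  · obtain ⟨a, ha⟩ := hA
    exact ⟨g, x, v, a, h, hmax, ha⟩
  push Not at hA
  obtain ⟨y, w, fr⟩ := hS.exists_frame h.v0 h.vc
  set C := img K g x with hC
  have hlineof : ∀ c ∈ C, polar QK v c = 0 → c ∈ line (K := K) F v := fun c hc hb =>
    by_contra fun hn => hA c hc hn hb
  obtain ⟨k₀, hk₀⟩ := h.nl
  set c₀ := g.1 (k₀ • x)
  have hc₀ : c₀ ∈ C := apply_mem_img g x k₀
  set b₀ := polar QK v c₀ with hb₀
  have hb0 : b₀ ≠ 0 := fun e => hk₀ (ExtOrth.mem_line.1 (hlineof c₀ hc₀ e))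
  -- an isotropic parameter
  let q₀ : QuadraticForm F K := Q.comp ((LinearMap.toSpanSingleton K V (b₀ • w)).restrictScalars F)
  obtain ⟨t, ht0, ht⟩ := exists_singular q₀ (by have := (Fact.out : 5 ≤ finrank F K); omega)
  replace ht : l (QK w * (b₀ * b₀) * (t * t)) = 0 := by
    have h1 : Q (t • b₀ • w) = 0 := ht
    rw [hS.eq, map_smul', map_smul'] at h1
    rw [← h1]
    congr 1
    ring
  let f : C →ₗ[F] F := ((polarBilin Q) ((tr hS fr t).1 c₀)).comp C.subtype
  let bm : C →ₗ[F] K := ((polarBilin QK v).restrictScalars F).comp C.subtype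
  have hf : ∀ c : C, f c = polar Q ((tr hS fr t).1 c₀) c := fun c => rfl
  have hker : LinearMap.ker bm ≤ LinearMap.ker f := fun c hc => by
    obtain ⟨s, hs⟩ := mem_one (K := K) (hlineof c c.2 hc)
    show polar Q ((tr hS fr t).1 c₀) (c : V) = 0
    rw [hs, ← tr_fix hS fr t s, polar_oG, hS.polar_eq]
    exact (hs ▸ img_polar hS h.xc hc₀ c.2 : l (polar QK c₀ (s • v)) = 0)
  have hrange : f ∈ LinearMap.range bm.dualMap := by
    rw [LinearMap.range_dualMap_eq_dualAnnihilator_ker]
    exact (Submodule.mem_dualAnnihilator _).2 fun c hc => hker hc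
  obtain ⟨φ, hφ⟩ := hrange
  have hφ' : ∀ c : C, φ (polar QK v (c : V)) = f c := fun c => LinearMap.congr_fun hφ c
  have hfc : f ⟨c₀, hc₀⟩ = 0 := by
    rw [hf, tr_apply, polar_sub_left, polar_add_left, hS.polar_eq, hS.polar_eq, hS.polar_eq, ← map_add, ← map_sub]
    simp only [polar_smul_left, smul_eq_mul]
    rw [← hb₀, polar_comm QK c₀ w, show polar QK c₀ c₀ + (t * polar QK w c₀ - t * t * QK w * b₀) * b₀ -
        t * b₀ * polar QK w c₀ = polar QK c₀ c₀ - QK w * (b₀ * b₀) * (t * t) by ring, map_sub, ht,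
      img_polar hS h.xc hc₀ hc₀, sub_zero]
  obtain ⟨ν, hν, hνφ⟩ := lin_surj hS hle fr (hne v h.v0 h.vc) hb0 (-φ) (by
    rw [LinearMap.neg_apply, hφ' ⟨c₀, hc₀⟩, hfc, neg_zero])
  obtain ⟨o, ho, hoe⟩ := exists_root hν
  set T := o * tr hS fr t with hT
  have hTH : T ∈ H := mul_mem ho (tr_mem hS fr hle t)
  have hTv : ∀ c : K, T.1 (c • v) = c • v := fun c => by
    rw [hT, oG_mul_apply, tr_fix, hoe, polar_smul_right, polar_self', fr.hv]; simp
  have hbT : polar QK v ((tr hS fr t).1 c₀) = b₀ := by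
    have := hS.sub_of_fix (fun c => tr_fix hS fr t c) c₀
    rwa [polar_sub_right, sub_eq_zero] at this
  have hTc₀ : T.1 c₀ = c₀ + (t * polar QK c₀ w - t * t * QK w * b₀ + ν b₀) • v - (t * b₀) • w := by
    rw [hT, oG_mul_apply, hoe, hbT, tr_apply, ← hb₀]
    module
  have hperp : ∀ c ∈ C, polar Q (T.1 c₀) c = 0 := fun c hc => by
    rw [hT, oG_mul_apply, hoe, hbT, polar_add_left, ← hf ⟨c, hc⟩, hS.polar_eq, polar_smul_left, smul_eq_mul,
      mul_comm, hνφ, LinearMap.neg_apply]
    have := hφ' ⟨c, hc⟩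
    simp only at this
    rw [this, add_neg_cancel]
  have hnC : T.1 c₀ ∉ C := fun hm => by
    have h1 := C.sub_mem hm hc₀
    have hd : T.1 c₀ - c₀ = (t * polar QK c₀ w - t * t * QK w * b₀ + ν b₀) • v - (t * b₀) • w := by
      rw [hTc₀]; abel
    rw [hd] at h1
    obtain ⟨s, hs⟩ := mem_one (K := K) (hlineof _ h1 (by
      rw [polar_sub_right, polar_smul_right, polar_smul_right, polar_self', fr.hv, fr.hvw]; simp))
    have h2 := congrArg (polar QK w) hs
    rw [polar_sub_right, polar_smul_right, polar_smul_right, polar_smul_right, polar_comm QK w v, fr.hvw, polar_self',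
      smul_zero, zero_sub, smul_zero, smul_eq_mul, neg_eq_zero] at h2
    exact mul_ne_zero (mul_ne_zero ht0 hb0) (mul_ne_zero hS.twoK fr.hw) h2
  obtain ⟨h', hkey⟩ := h.move hTH hTv ⟨c₀, hc₀, hnC⟩
  refine ⟨g⁻¹ * T * g, x, (g⁻¹).1 v, (g⁻¹).1 (T.1 c₀), h', fun g' x' v' hh => (hmax g' x' v' hh).trans ?_, ?_, ?_, ?_⟩
  · have h1 : (img K g x ⊓ line (K := K) F v).map ((g⁻¹).1 : V →ₗ[F] V) ≤
        img K (g⁻¹ * T * g) x ⊓ line (K := K) F ((g⁻¹).1 v) := by
      rintro _ ⟨u, hu, rfl⟩
      exact hkey u hu.1 hu.2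
    have h2 := Submodule.finrank_mono h1
    rw [LinearEquiv.finrank_map_eq] at h2
    exact h2
  · exact mem_img.2 ⟨k₀, by rw [oG_mul_apply, oG_mul_apply]⟩
  · intro hm
    obtain ⟨d, hd0, hd⟩ := h.v_eq
    obtain ⟨s, hs⟩ := mem_one (K := K) hm
    rw [← hd, oG_inv_apply, smul_smul] at hs
    exact hnC (mem_img.2 ⟨s * d, by rw [← hs, oG_apply_inv]⟩)
  · refine hS.sep0 fun k => ?_
    obtain ⟨d, hd0, hd⟩ := h.v_eq
    rw [← smul_eq_mul, ← polar_smul_left, ← hS.polar_eq, ← polar_oG g, oG_apply_inv, ← hd, oG_inv_apply,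
      polar_comm, smul_smul]
    exact hperp _ (apply_mem_img g x _)

/-- the normal form -/
theorem normal (hS : Setting Q QK l) (h : Tr QK H g x v) (hle : Le hS H) (hmax : IsMax QK H g x v)
    (haC : a ∈ img K g x) (hal : a ∉ line (K := K) F v) (hva : polar QK v a = 0) :
    ∀ c ∈ img K g x, polar QK v c = 0 ∧ ∃ f : F, c - f • a ∈ line (K := K) F v := by
  haveI := hS.fin
  obtain ⟨y, w, fr⟩ := hS.exists_frame h.v0 h.vc
  set C := img K g x with hC
  set θ := QK w with hθ
  have hθ2 : 2 * θ ≠ 0 := mul_ne_zero hS.twoK fr.hw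
  obtain ⟨α, ρ, hae⟩ := fr.perp hS hva
  have hρ : ρ ≠ 0 := fun e => hal (by rw [hae, e, zero_smul, add_zero]; exact smul_mem_line v α)
  have haw : ∀ α ρ : K, polar QK (α • v + ρ • w) w = 2 * θ * ρ := fun α ρ => by
    rw [polar_add_left, polar_smul_left, polar_smul_left, fr.hvw, polar_self', smul_zero, zero_add, smul_eq_mul]; ring
  obtain ⟨c₁, hc₁⟩ := h.not_line_le hS
  have hstab : ∀ u : K, u • v ∈ C → ∀ c ∈ C, (tr hS fr (u / (2 * θ * ρ))).1 c ∈ C := fun u hu => by
    refine h.dich hmax (tr_mem hS fr hle _) (tr_fix hS fr _) haC hal ?_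
    rw [tr_perp hS fr _ hva, hae, haw, div_mul_cancel₀ _ (mul_ne_zero hθ2 hρ), ← hae]
    exact C.add_mem haC hu
  have hrho : ∀ c ∈ C, polar QK v c = 0 → ∃ f : F, c - f • a ∈ line (K := K) F v ∧
      polar QK c w = algebraMap F K f * (2 * θ * ρ) := fun c hc hb => by
    obtain ⟨α', ρ', hce⟩ := fr.perp hS hb
    haveI := Subalgebra.isSimpleOrder_of_finrank_prime F K hS.prime
    let S : Subalgebra F K :=
      { carrier := {τ | ∀ u : K, u • v ∈ C → (τ * u) • v ∈ C}
        mul_mem' := fun {a b} ha hb u hu => by rw [mul_assoc]; exact ha _ (hb u hu)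
        add_mem' := fun {a b} ha hb u hu => by rw [add_mul, add_smul]; exact C.add_mem (ha u hu) (hb u hu)
        algebraMap_mem' := fun t u hu => by rw [mul_smul, algebraMap_smul]; exact C.smul_mem t hu }
    have hτ : ρ' / ρ ∈ S := fun u hu => by
      have h1 := C.sub_mem (hstab u hu c hc) hc
      rw [tr_perp hS fr _ hb, add_sub_cancel_left, hce, haw] at h1
      convert h1 using 2
      field_simp
      rw [eq_div_iff hθ2]
      ring
    rcases eq_bot_or_eq_top S with e | e
    · obtain ⟨f, hf⟩ := Algebra.mem_bot.1 (e ▸ hτ : ρ' / ρ ∈ (⊥ : Subalgebra F K))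
      rw [eq_div_iff hρ] at hf
      refine ⟨f, ?_, by rw [hce, haw, ← hf]; ring⟩
      rw [hce, hae, ← hf, ← algebraMap_smul K f, smul_add, smul_smul, smul_smul]
      rw [show α' • v + (algebraMap F K f * ρ) • w - ((algebraMap F K f * α) • v + (algebraMap F K f * ρ) • w) =
        (α' - algebraMap F K f * α) • v by module]
      exact smul_mem_line v _
    · refine absurd ?_ hc₁
      have := (e.symm ▸ Algebra.mem_top : c₁ ∈ S) 1 (by rw [one_smul]; exact h.vm)
      rwa [mul_one] at this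
  intro c hc
  suffices hb : ∀ c ∈ C, polar QK v c = 0 by
    obtain ⟨f, hf, -⟩ := hrho c hc (hb c hc)
    exact ⟨hb c hc, f, hf⟩
  -- no vector of the image pairs to the point
  have hub : ∀ c ∈ C, ∀ u : K, u • v ∈ C → ∃ f : F, u * polar QK v c = algebraMap F K f * (-(2 * θ * ρ * ρ)) := by
    intro c hc u hu
    set b := polar QK v c
    set s := u / (2 * θ * ρ) with hs
    have h1 := C.sub_mem (hstab u hu c hc) hc
    have h2 := C.sub_mem (hstab (-u) (by rw [neg_smul]; exact C.neg_mem hu) c hc) hc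
    rw [neg_div, ← hs] at h2
    rw [tr_apply] at h1 h2
    have h3 : (2 : F) • (((s * polar QK c w) • v) + (-(s * b)) • w) ∈ C := by
      convert C.sub_mem h1 h2 using 1
      rw [two_smul]
      module
    rw [C.smul_mem_iff hS.two] at h3
    obtain ⟨f, -, hf⟩ := hrho _ h3 (fr.perp_mem _ _)
    rw [haw] at hf
    refine ⟨f, ?_⟩
    have h4 : -(s * b) = algebraMap F K f * ρ := mul_left_cancel₀ hθ2 (by linear_combination hf)
    rw [show u = s * (2 * θ * ρ) by rw [hs, div_mul_cancel₀ _ (mul_ne_zero hθ2 hρ)]]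
    linear_combination (-(2 * θ * ρ)) * h4
  intro c hc
  by_contra hbc
  set b := polar QK v c
  set η := -(2 * θ * ρ * ρ)
  have hη : η ≠ 0 := neg_ne_zero.2 (mul_ne_zero (mul_ne_zero hθ2 hρ) hρ)
  obtain ⟨f₁, hf₁⟩ := hub c hc 1 (by rw [one_smul]; exact h.vm)
  rw [one_mul] at hf₁
  let bm : C →ₗ[F] K := ((polarBilin QK v).restrictScalars F).comp C.subtype
  have h1 : finrank F (LinearMap.range bm) ≤ 1 := by
    refine (Submodule.finrank_mono (show LinearMap.range bm ≤ F ∙ η from ?_)).trans ?_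
    · rintro _ ⟨⟨d, hd⟩, rfl⟩
      obtain ⟨f, hf⟩ := hub d hd 1 (by rw [one_smul]; exact h.vm)
      rw [one_mul] at hf
      exact Submodule.mem_span_singleton.2 ⟨f, by rw [Algebra.smul_def]; exact hf.symm⟩
    · classical
      have := finrank_span_le_card (R := F) ({η} : Set K)
      rwa [Set.toFinset_singleton, Finset.card_singleton] at this
  have h2 : finrank F (LinearMap.ker bm) ≤ 2 := by
    let emb : LinearMap.ker bm →ₗ[F] V := C.subtype.comp (LinearMap.ker bm).subtype
    have hle' : LinearMap.range emb ≤ Submodule.span F ({v, a} : Set V) := by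
      rintro _ ⟨⟨⟨d, hd⟩, hdk⟩, rfl⟩
      obtain ⟨f, hf, -⟩ := hrho d hd hdk
      obtain ⟨u, hu⟩ := mem_one (K := K) hf
      have huC : u • v ∈ C := hu ▸ C.sub_mem hd (C.smul_mem f haC)
      obtain ⟨f', hf'⟩ := hub c hc u huC
      have e1 : u * (algebraMap F K f₁) = algebraMap F K f' := mul_right_cancel₀ hη (by
        rw [mul_assoc, ← hf₁]; exact hf')
      have hf10 : f₁ ≠ 0 := fun e => hbc (show polar QK v c = 0 by rw [hf₁, e, map_zero, zero_mul])
      refine Submodule.mem_span_pair.2 ⟨f' / f₁, f, ?_⟩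
      show (f' / f₁) • v + f • a = d
      rw [← algebraMap_smul K (f' / f₁) v, map_div₀, ← e1,
        mul_div_cancel_right₀ _ (fun e => hf10 ((algebraMap F K).injective (by rw [e, map_zero]))), ← hu, sub_add_cancel]
    have hinj : Function.Injective emb := Subtype.coe_injective.comp Subtype.coe_injective
    rw [← LinearMap.finrank_range_of_inj hinj]
    refine (Submodule.finrank_mono hle').trans ?_
    classical
    have := finrank_span_le_card (R := F) ({v, a} : Set V)
    rw [Set.toFinset_insert, Set.toFinset_singleton] at this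
    exact this.trans Finset.card_le_two
  have h3 := bm.finrank_range_add_finrank_ker
  have h4 : finrank F C = finrank F K := finrank_img hS g h.x0
  have := (Fact.out : 5 ≤ finrank F K)
  omega

end Tr

/-- all root groups inside one cone line -/
theorem plvv (hS : Setting Q QK l) (hle : Le hS H) (hne : ∀ v, v ≠ 0 → ∀ hv : QK v = 0, lin hv H ≠ ⊥)
    (h : Tr QK H g x v) (hmax : IsMax QK H g x v) (haC : a ∈ img K g x) (hal : a ∉ line (K := K) F v)
    (hva : polar QK v a = 0) : ∀ c d : K, Pl H (c • v) (d • v) := by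
  haveI := hS.fin
  have hdec := h.normal hS hle hmax haC hal hva
  set C := img K g x with hC
  obtain ⟨y, w, fr⟩ := hS.exists_frame h.v0 h.vc
  obtain ⟨c₀, hc₀⟩ := h.not_line_le hS
  let U : Submodule F K := C.comap ((LinearMap.toSpanSingleton K V v).restrictScalars F)
  have hU : ∀ c : K, c ∈ U ↔ c • v ∈ C := fun c => Iff.rfl
  have hUdim : finrank F K ≤ finrank F U + 1 := by
    classical
    let d : K →ₗ[F] V := (LinearMap.toSpanSingleton K V v).restrictScalars F
    have hsub : C ≤ U.map d ⊔ (F ∙ a) := fun c hc => by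
      obtain ⟨-, f, hf⟩ := hdec c hc
      obtain ⟨u, hu⟩ := mem_one (K := K) hf
      refine Submodule.mem_sup.2 ⟨_, ⟨u, (hU u).2 (hu ▸ C.sub_mem hc (C.smul_mem f haC)), rfl⟩, f • a,
        Submodule.smul_mem _ f (Submodule.mem_span_singleton_self a), ?_⟩
      show u • v + f • a = c
      rw [← hu, sub_add_cancel]
    have h1 := Submodule.finrank_mono hsub
    have h2 := Submodule.finrank_add_le_finrank_add_finrank (U.map d) (F ∙ a)
    have h3 := finrank_span_le_card (R := F) ({a} : Set V)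
    rw [Set.toFinset_singleton, Finset.card_singleton] at h3
    have h4 := Submodule.finrank_map_le d U
    rw [finrank_img hS g h.x0] at h1
    omega
  have hc₀U : c₀ ∉ U := fun e => hc₀ ((hU c₀).1 e)
  obtain ⟨κ, hκU, hκ0⟩ : ∃ κ : K, (∀ u ∈ U, l (u * κ) = 0) ∧ l (c₀ * κ) = 1 := by
    obtain ⟨φ, hφ1, hφ2⟩ := Submodule.exists_dual_map_eq_bot_of_notMem (p := U) hc₀U inferInstance
    obtain ⟨κ, hκ⟩ := hS.rep ((φ c₀)⁻¹ • φ)
    refine ⟨κ, fun u hu => ?_, by rw [hκ]; exact inv_mul_cancel₀ hφ1⟩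
    have hz : φ u = 0 := (Submodule.mem_bot F).1 (hφ2 ▸ Submodule.mem_map_of_mem hu)
    rw [hκ, LinearMap.smul_apply, hz, smul_zero]
  have hUeq : ∀ c : K, l (c * κ) = 0 → c ∈ U := fun c hc => by
    by_contra hcU
    have hlt : U < U ⊔ (F ∙ c) := lt_of_le_of_ne le_sup_left fun e =>
      hcU (e.symm ▸ Submodule.mem_sup_right (Submodule.mem_span_singleton_self c))
    have hlt' := Submodule.finrank_lt_finrank_of_lt hlt
    have htop : U ⊔ (F ∙ c) = ⊤ := Submodule.eq_top_of_finrank_eq (by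
      have := Submodule.finrank_le (U ⊔ (F ∙ c)); omega)
    obtain ⟨u, hu, z, hz, e⟩ := Submodule.mem_sup.1 (htop.symm ▸ Submodule.mem_top : c₀ ∈ U ⊔ (F ∙ c))
    obtain ⟨f, rfl⟩ := Submodule.mem_span_singleton.1 hz
    rw [← e, add_mul, map_add, hκU u hu, smul_mul_assoc, map_smul, hc, smul_zero, add_zero] at hκ0
    exact zero_ne_one hκ0
  have hκ : κ ≠ 0 := fun e => by rw [e, mul_zero, map_zero] at hκ0; exact zero_ne_one hκ0
  -- transvections of the line
  obtain ⟨y', w', fr'⟩ := hS.exists_frame h.x0 h.xc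
  set a₀ := (g⁻¹).1 (c₀ • v) with ha₀
  have hxa₀ : polar QK x a₀ = 0 := hS.sep0 fun k => by
    rw [← smul_eq_mul, ← polar_smul_left, ← hS.polar_eq, ← polar_oG g, ha₀, oG_apply_inv, hS.polar_eq,
      polar_smul_right, polar_comm, (hdec _ (apply_mem_img g x k)).1, smul_zero, map_zero]
  obtain ⟨α, ρ, ha₀e⟩ := fr'.perp hS hxa₀
  have hρ : ρ ≠ 0 := fun e => hc₀ (mem_img.2 ⟨α, by
    rw [e, zero_smul, add_zero] at ha₀e
    rw [← ha₀e, ha₀, oG_apply_inv]⟩)
  have hP : ∀ u ∈ U, ∃ P ∈ H, ∀ c : K, P.1 (c • v) = c • v + (l (c * κ) • u) • v := by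
    intro u hu
    obtain ⟨d, hd⟩ := mem_img.1 ((hU u).1 hu)
    set t := d / (2 * QK w' * ρ)
    set P := g * tr hS fr' t * g⁻¹ with hPd
    refine ⟨P, mul_mem (mul_mem h.gH (tr_mem hS fr' hle t)) (inv_mem h.gH), fun c => ?_⟩
    have hC' : ∀ z ∈ C, P.1 z = z := fun z hz => by
      obtain ⟨k, rfl⟩ := mem_img.1 hz
      rw [hPd, oG_mul_apply, oG_mul_apply, oG_inv_apply, tr_fix]
    have h0 : P.1 (c₀ • v) = c₀ • v + u • v := by
      have e : polar QK a₀ w' = 2 * QK w' * ρ := by
        rw [ha₀e, polar_add_left, polar_smul_left, polar_smul_left, fr'.hvw, polar_self', smul_zero, zero_add,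
          smul_eq_mul]
        ring
      rw [hPd, oG_mul_apply, oG_mul_apply, ← ha₀, tr_perp hS fr' t hxa₀, e,
        div_mul_cancel₀ _ (mul_ne_zero (mul_ne_zero hS.twoK fr'.hw) hρ), map_add, ha₀, oG_apply_inv, hd]
    set s := l (c * κ) with hs
    have hcU : c - s • c₀ ∈ U := hUeq _ (by
      rw [sub_mul, smul_mul_assoc, map_sub, map_smul, hκ0, smul_eq_mul, mul_one, ← hs, sub_self])
    have h1 := hC' _ ((hU _).1 hcU)
    rw [sub_smul, smul_assoc, map_sub, map_smul P.1 s, h0] at h1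
    rw [smul_assoc]
    linear_combination (norm := module) h1
  have hUU : ∀ u ∈ U, ∀ u' ∈ U, Pl H (u • v) (u' • v) := by
    intro u hu u' hu'
    obtain ⟨φ, hφ⟩ : ∃ φ : K →ₗ[F] F, ∀ b, φ b = l (b * u') := ⟨l.comp (LinearMap.mulRight F u'), fun b => rfl⟩
    obtain ⟨ν, hν, hνφ⟩ := lin_surj hS hle fr (hne v h.v0 h.vc) hκ φ (by rw [hφ, mul_comm, hκU u' hu'])
    have hνκ : ν κ = u' := hS.sep fun b => by rw [hνφ, hφ]
    have hperp : ∀ s : F, polar Q (u • v) (s • u' • v) = 0 := fun s => by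
      rw [polar_smul_right, hS.polar_eq, polar_smul_left, polar_smul_right, polar_self', fr.hv]; simp
    refine ⟨hS.cone fr.hv u, hS.cone fr.hv u', by simpa using hperp 1, fun s hu0 hs => ?_⟩
    obtain ⟨P, hPH, hP⟩ := hP u hu
    have hst : StabL K v P := fun c => ⟨c + l (c * κ) • u, by rw [hP, add_smul]⟩
    obtain ⟨o, ho, hoe⟩ := hν (-s)
    obtain ⟨o', ho', ho'e⟩ := hν (-(-s))
    have e : sO hu0 hs = o' * (P * o * P⁻¹) := ext_oG fun z => by
      set ν' := (-s) • ν with hν'
      have hsk := fun p q => lin_skew hS fr (Submodule.smul_mem _ (-s) hν) p q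
      set b := polar QK v z
      set b' := polar QK v ((P⁻¹).1 z) with hb'
      have e1 : b' = b + l (u * b) • κ := hS.sep fun c => by
        rw [hb', ← smul_eq_mul, ← polar_smul_left, ← hS.polar_eq, ← polar_oG P, oG_apply_inv, hP, hS.polar_eq,
          polar_add_left, polar_smul_left, polar_smul_left, smul_eq_mul, smul_eq_mul, smul_mul_assoc, map_add, map_smul,
          mul_add, map_add, mul_smul_comm, map_smul, smul_eq_mul, smul_eq_mul]
        simp only [b, mul_comm]
      have e2 : (P * o * P⁻¹).1 z = z + (ν' b' + l (ν' b' * κ) • u) • v := by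
        rw [oG_mul_apply, oG_mul_apply, hoe, map_add, oG_apply_inv, hP, add_smul]
      rw [oG_mul_apply, e2, ho'e, polar_add_right, polar_smul_right, polar_self', fr.hv, mul_zero, smul_zero, add_zero,
        sO_apply, map_smul', hS.cone fr.hv u']
      have hz : ∀ r : K, polar Q z (r • v) = l (r * b) := fun r => by
        rw [hS.polar_eq, polar_smul_right, polar_comm QK z v, smul_eq_mul]
      have hκd : ν' κ = (-s) • u' := by rw [hν', LinearMap.smul_apply, hνκ]
      have hlU : l (ν' κ * κ) = 0 := by rw [hκd, smul_mul_assoc, map_smul, hκU u' hu', smul_zero]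
      have hb0 : l (ν' b * κ) = s * l (u' * b) := by
        have := hsk κ b
        rw [hκd, mul_comm b, smul_mul_assoc, map_smul, smul_eq_mul, mul_comm κ] at this
        linear_combination this
      rw [e1, map_add, map_smul, add_mul, smul_mul_assoc, map_add, map_smul, hlU, smul_zero, add_zero, hb0, hκd]
      rw [show ν' b = (-s) • ν b from rfl, LinearMap.smul_apply, neg_neg, polar_smul_right, hz u', hz u]
      simp only [add_smul, smul_assoc, neg_smul, smul_eq_mul, mul_zero, zero_mul, neg_zero, zero_smul, add_zero]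
      module
    rw [e]
    exact mul_mem ho' (mul_mem (mul_mem hPH ho) (inv_mem hPH))
  -- all pairs
  obtain ⟨f₀, hf₀, hsq⟩ := hS.sq_or
  intro c d
  obtain ⟨κ', hκ'c, hκ'0⟩ : ∃ κ' : K, (l (κ' * c) = 0 ∧ l (κ' * d) = 0) ∧ κ' ≠ 0 := by
    let L : K →ₗ[F] F × F := (l.comp (LinearMap.mulRight F c)).prod (l.comp (LinearMap.mulRight F d))
    obtain ⟨z, hz, hz0⟩ := Submodule.exists_mem_ne_zero_of_ne_bot (p := LinearMap.ker L) (fun e => by
      have h1 := LinearMap.finrank_range_add_finrank_ker L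
      have h2 := Submodule.finrank_le (LinearMap.range L)
      rw [e, finrank_bot] at h1
      rw [Module.finrank_prod, finrank_self] at h2
      have := (Fact.out : 5 ≤ finrank F K)
      omega)
    exact ⟨z, ⟨congrArg Prod.fst hz, congrArg Prod.snd hz⟩, hz0⟩
  obtain ⟨s, hs, hs'⟩ := hsq (κ / κ') (div_ne_zero hκ hκ'0)
  obtain ⟨k, hk, hkv, -, -⟩ := hS.torus fr hs
  have hin : ∀ e : K, l (κ' * e) = 0 → ∃ u ∈ U, e = s * s * u := fun e he => by
    have hm : e * κ' / κ ∈ U := hUeq _ (by rw [div_mul_cancel₀ _ hκ, mul_comm, he])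
    have hee : e = κ / κ' * (e * κ' / κ) := by field_simp
    rcases hs' with h' | h' <;> rw [h'] at hee
    · exact ⟨_, hm, hee⟩
    · refine ⟨f₀ • (e * κ' / κ), U.smul_mem _ hm, ?_⟩
      conv_lhs => rw [hee]
      rw [Algebra.smul_def]
      ring
  obtain ⟨u, hu, rfl⟩ := hin c hκ'c.1
  obtain ⟨u', hu', rfl⟩ := hin d hκ'c.2
  have h1 := (hUU u hu u' hu').conj (hle k hk)
  rwa [res_apply, res_apply, map_smul, map_smul, hkv, smul_smul, smul_smul, mul_comm u, mul_comm u'] at h1

/-- an overgroup with an element that is not semilinear contains all Siegel transformations -/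
theorem eo_le_of_nonsemilinear (hS : Setting Q QK l) (hle : Le hS H) (hg : g ∈ H)
    (hnl : ∃ (k : K) (x : V), g.1 (k • x) ∉ K ∙ g.1 x) : eo Q ≤ H := by
  classical
  haveI := hS.fin
  haveI := hS.finV
  have hne : ∀ v, v ≠ 0 → ∀ hv : QK v = 0, lin hv H ≠ ⊥ := fun v hv0 hv => lin_ne_bot hS hle hg hnl hv0 hv
  obtain ⟨u, hu0, hu, hgu⟩ := hS.exists_off hnl
  obtain ⟨g₀, x₀, v₀, h₀⟩ := exists_tr hS hle hne hg hu0 hu hgu
  obtain ⟨g₁, x₁, v₁, h₁, hmax₁⟩ := exists_max h₀
  obtain ⟨g₂, x₂, v₂, a, h₂, hmax₂, haC, hal, hva⟩ := h₁.exists_orth_vec hS hle hne hmax₁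
  have hbase := plvv hS hle hne h₂ hmax₂ haC hal hva
  have hall : ∀ e, e ≠ 0 → QK e = 0 → ∀ c d : K, Pl H (c • e) (d • e) := fun e he0 he c d => by
    obtain ⟨k, hk, t, ht, hkv⟩ := hS.trans h₂.v0 h₂.vc he0 he
    have h1 := (hbase (c / t) (d / t)).conj (hle k hk)
    rwa [res_apply, res_apply, map_smul, map_smul, hkv, smul_smul, smul_smul, div_mul_cancel₀ _ ht, div_mul_cancel₀ _ ht] at h1
  exact eo_of_all hS hall

end Cfsg.Agent.ClassicalMax.ExtOrth3
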