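import Mathlib

/-!
An element `T` of order `p` of a linear group over a field with `q` elements in characteristic `p`, with `(T - 1)³ = 0`,
cannot act without fixed points on an elementary abelian `ℓ`-group with a fixed vector, if either `p ≥ 5`, or `p = 3` and
the order of `q` modulo `ℓ` is prime to `3` and at least a third of the dimension.
-/

set_option autoImplicit false
set_option linter.unusedSectionVars false

namespace Cfsg.Agent.ClassicalMax.ExtOrth3.Rigid

open Module Matrix

theorem pow_mod_of_pow_eq_one {G : Type*} [Monoid G] {T : G} {p : ℕ} (h : T ^ p = 1) {k : ℕ} : T ^ (k % p) = T ^ k := by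
  conv_rhs => rw [← Nat.mod_add_div k p, pow_add, pow_mul, h, one_pow, mul_one]

theorem ne_zero_of_pow {E : Type*} [Field E] {x : E} {k : ℕ} [hk : Fact k.Prime] (h : x ^ k = 1) : x ≠ 0 := fun e => by
  rw [e, zero_pow hk.out.ne_zero] at h
  exact zero_ne_one h

theorem pow_eq_pow_iff_modEq' {E : Type*} [Field E] {x : E} (hx : x ≠ 0) {b c : ℕ} :
    x ^ b = x ^ c ↔ b ≡ c [MOD orderOf x] := by
  have h1 : orderOf x = orderOf (Units.mk0 x hx) := by rw [← orderOf_units]; rfl
  rw [h1, ← pow_eq_pow_iff_modEq, Units.ext_iff, Units.val_pow_eq_pow_val, Units.val_pow_eq_pow_val, Units.val_mk0]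

section Chars

variable {E W α : Type*} [Field E] [AddCommGroup W] [Module E W]

/-- common eigenvectors with distinct systems of eigenvalues are independent -/
theorem li_of_chars {ι : Type*} (op : α → W →ₗ[E] W) (u : ι → W) (χ : ι → α → E) (hu : ∀ i, u i ≠ 0)
    (he : ∀ i a, op a (u i) = χ i a • u i) (hd : Function.Injective χ) : LinearIndependent E u := by
  classical
  rw [linearIndependent_iff']
  intro s
  induction s using Finset.induction_on with
  | empty => simp
  | insert i s his ih =>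
    intro c hc
    rw [Finset.sum_insert his] at hc
    have hs : ∀ j ∈ s, c j = 0 := fun j hj => by
      obtain ⟨a, ha⟩ : ∃ a, χ j a ≠ χ i a := by
        by_contra hcon
        push Not at hcon
        exact his (hd (funext hcon) ▸ hj)
      have h1 := congrArg (op a) hc
      rw [map_add, map_sum, map_smul, he, map_zero] at h1
      simp only [map_smul, he, smul_smul] at h1
      have h2 := congrArg (χ i a • ·) hc
      simp only [smul_add, Finset.smul_sum, smul_smul, smul_zero] at h2
      have h3 : ∑ k ∈ s, (c k * (χ k a - χ i a)) • u k = 0 := by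
        simp only [mul_sub, sub_smul, Finset.sum_sub_distrib]
        linear_combination (norm := (simp only [mul_comm]; module)) h1 - h2
      exact (mul_eq_zero.1 (ih _ h3 j hj)).resolve_right (sub_ne_zero.2 ha)
    intro j hj
    rcases Finset.mem_insert.1 hj with rfl | hj
    swap
    · exact hs j hj
    rw [Finset.sum_eq_zero fun k hk => by rw [hs k hk, zero_smul], add_zero, smul_eq_zero] at hc
    exact hc.resolve_right (hu j)

/-- commuting operators with a non-zero invariant subspace have a common eigenvector in it -/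
theorem exists_common [IsAlgClosed E] [FiniteDimensional E W] (op : α → W →ₗ[E] W)
    (hc : ∀ a b x, op a (op b x) = op b (op a x)) :
    ∀ (n : ℕ) (U : Submodule E W), finrank E U = n → (∀ a, ∀ x ∈ U, op a x ∈ U) → U ≠ ⊥ →
      ∃ χ : α → E, ∃ u ∈ U, u ≠ 0 ∧ ∀ a, op a u = χ a • u := by
  intro n
  induction n using Nat.strong_induction_on with
  | h n ih =>
    intro U hn hU hU0
    haveI : Nontrivial U := Submodule.nontrivial_iff_ne_bot.2 hU0
    have hμ : ∀ a, ∃ μ : E, ∃ u ∈ U, u ≠ 0 ∧ op a u = μ • u := fun a => by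
      obtain ⟨μ, hμ⟩ := Module.End.exists_eigenvalue ((op a).restrict (hU a))
      obtain ⟨u, hu⟩ := hμ.exists_hasEigenvector
      exact ⟨μ, u, u.2, fun e => hu.2 (Subtype.ext e), congrArg Subtype.val hu.apply_eq_smul⟩
    choose μ hμ using hμ
    by_cases hall : ∀ a, ∀ x ∈ U, op a x = μ a • x
    · obtain ⟨u, hu, hu0⟩ := Submodule.exists_mem_ne_zero_of_ne_bot hU0
      exact ⟨μ, u, hu, hu0, fun a => hall a u hu⟩
    push Not at hall
    obtain ⟨a, x, hx, hax⟩ := hall
    obtain ⟨u, hu, hu0, hau⟩ := hμ a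
    set U' : Submodule E W := U ⊓ LinearMap.ker (op a - μ a • LinearMap.id) with hU'
    have hmem : ∀ y, y ∈ U' ↔ y ∈ U ∧ op a y = μ a • y := fun y => by
      simp [hU', sub_eq_zero]
    have hlt : U' < U := lt_of_le_of_ne inf_le_left fun e => hax ((hmem x).1 (e.symm ▸ hx)).2
    obtain ⟨χ, v, hv, r⟩ := ih _ (hn ▸ Submodule.finrank_lt_finrank_of_lt hlt) U' rfl
      (fun b y hy => (hmem _).2 ⟨hU b y ((hmem y).1 hy).1, by rw [hc, ((hmem y).1 hy).2, map_smul]⟩)
      (fun e => hu0 ((Submodule.mem_bot E).1 (e ▸ (hmem u).2 ⟨hu, hau⟩)))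
    exact ⟨χ, v, ((hmem v).1 hv).1, r⟩

end Chars

variable {F V : Type*} [Field F] [Fintype F] [AddCommGroup V] [Module F V] [FiniteDimensional F V]

set_option maxHeartbeats 4000000 in
/-- no element of order `p` and degree at most three acts without fixed points -/
theorem false_of_fpf {p ℓ : ℕ} [hpf : Fact p.Prime] [hlf : Fact ℓ.Prime] [CharP F p] (hpl : p ≠ ℓ) (hp2 : p ≠ 2)
    (A : Subgroup (V ≃ₗ[F] V)) (hcomm : ∀ a ∈ A, ∀ b ∈ A, a * b = b * a) (hexp : ∀ a ∈ A, a ^ ℓ = 1) (hA : A ≠ ⊥)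
    (T : V ≃ₗ[F] V) (hTA : ∀ a ∈ A, T * a * T⁻¹ ∈ A) (hTp : T ^ p = 1)
    (hT3 : ∀ x, T (T (T x)) + (3 : F) • T x = (3 : F) • T (T x) + x)
    (hfix : ∀ a ∈ A, T * a = a * T → a = 1) {v₀ : V} (hv₀ : v₀ ≠ 0) (hv₀A : ∀ a ∈ A, a v₀ = v₀)
    (he : p = 3 → ¬ 3 ∣ orderOf (Fintype.card F : ZMod ℓ) ∧
      finrank F V ≤ 3 * orderOf (Fintype.card F : ZMod ℓ)) : False := by
  classical
  set E := AlgebraicClosure F
  set n := finrank F V with hn
  let B := Module.finBasis F V
  let Ψ : (V ≃ₗ[F] V) →* Matrix (Fin n) (Fin n) E :=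
    ((algebraMap F E).mapMatrix.toMonoidHom.comp (LinearMap.toMatrixAlgEquiv B).toAlgHom.toRingHom.toMonoidHom).comp
      LinearEquiv.automorphismGroup.toLinearMapMonoidHom
  let φ : (V ≃ₗ[F] V) → (Fin n → E) →ₗ[E] (Fin n → E) := fun g => (Ψ g).mulVecLin
  have hφmul : ∀ g h x, φ (g * h) x = φ g (φ h x) := fun g h x => by
    simp only [φ, mulVecLin_apply, map_mul]
    exact (Matrix.mulVec_mulVec x (Ψ g) (Ψ h)).symm
  have hφ1 : ∀ x, φ 1 x = x := fun x => by simp only [φ, mulVecLin_apply, map_one, Matrix.one_mulVec]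
  have hφinj : ∀ g, (∀ x, φ g x = x) → g = 1 := fun g hg => by
    have h1 : Ψ g = Ψ 1 := by
      rw [map_one]
      exact Matrix.ext_of_mulVec_single fun i => by
        have := hg (Pi.single i 1)
        simp only [φ, mulVecLin_apply] at this
        rw [this, Matrix.one_mulVec]
    have h2 := Matrix.map_injective (algebraMap F E).injective h1
    exact LinearEquiv.toLinearMap_injective ((LinearMap.toMatrixAlgEquiv B).injective h2)
  have hℓE : (ℓ : E) ≠ 0 := fun h => by
    haveI : CharP E p := charP_of_injective_algebraMap (algebraMap F E).injective p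
    have := (CharP.cast_eq_zero_iff E p ℓ).1 h
    exact hpl ((Nat.prime_dvd_prime_iff_eq hpf.out hlf.out).1 this)
  obtain ⟨⟨a₀, ha₀⟩, ha₀1⟩ := Subgroup.ne_bot_iff_exists_ne_one.1 hA
  replace ha₀1 : a₀ ≠ 1 := fun e => ha₀1 (Subtype.ext e)
  set U₀ : Submodule E (Fin n → E) := LinearMap.range (φ a₀ - (LinearMap.id : (Fin n → E) →ₗ[E] (Fin n → E))) with hU₀
  have hopc : ∀ (a b : A) x, φ (a : V ≃ₗ[F] V) (φ b x) = φ (b : V ≃ₗ[F] V) (φ a x) := fun a b x => by
    rw [← hφmul, ← hφmul, hcomm _ a.2 _ b.2]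
  have hU₀inv : ∀ (a : A), ∀ x ∈ U₀, φ (a : V ≃ₗ[F] V) x ∈ U₀ := by
    rintro a _ ⟨y, rfl⟩
    exact ⟨φ (a : V ≃ₗ[F] V) y, by simp [map_sub, hopc a ⟨a₀, ha₀⟩]⟩
  have hU₀ne : U₀ ≠ ⊥ := fun e => ha₀1 (hφinj _ fun x => by
    have : (φ a₀ - (LinearMap.id : (Fin n → E) →ₗ[E] (Fin n → E))) x ∈ U₀ := ⟨x, rfl⟩
    rw [e, Submodule.mem_bot, LinearMap.sub_apply, LinearMap.id_apply, sub_eq_zero] at this
    exact this)
  obtain ⟨χ, u, huU, hu0, hu⟩ := exists_common (fun a : A => φ (a : V ≃ₗ[F] V)) hopc _ U₀ rfl hU₀inv hU₀ne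
  have hfixU : ∀ x ∈ U₀, φ a₀ x = x → x = 0 := by
    rintro _ ⟨y, rfl⟩ hx
    set z := (φ a₀ - (LinearMap.id : (Fin n → E) →ₗ[E] (Fin n → E))) y with hz
    have hy : φ a₀ y = y + z := by rw [hz]; simp
    have hk : ∀ k : ℕ, φ (a₀ ^ k) y = y + (k : E) • z := fun k => by
      induction k with
      | zero => simp [hφ1]
      | succ k ih =>
        rw [pow_succ', hφmul, ih, map_add, map_smul, hx, hy]
        push_cast
        module
    have := hk ℓ
    rw [hexp _ ha₀, hφ1] at this
    exact (smul_eq_zero.1 (by simpa using this.symm)).resolve_left hℓE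
  have hχmul : ∀ a b : A, χ (a * b) = χ a * χ b := fun a b => by
    refine smul_left_injective E hu0 ?_
    show χ (a * b) • u = (χ a * χ b) • u
    rw [← hu, Subgroup.coe_mul, hφmul, hu, map_smul, hu, smul_smul, mul_comm]
  have hχ1 : χ 1 = 1 := by
    refine smul_left_injective E hu0 ?_
    show χ 1 • u = (1 : E) • u
    rw [← hu, Subgroup.coe_one, hφ1, one_smul]
  set b₀ : A := ⟨a₀, ha₀⟩
  have hχb : χ b₀ ≠ 1 := fun e => hu0 (hfixU u huU (by
    have := hu b₀
    rwa [e, one_smul] at this))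
  have hχℓ : ∀ a, χ a ^ ℓ = 1 := fun a => by
    let c : A →* E := { toFun := χ, map_one' := hχ1, map_mul' := hχmul }
    show c a ^ ℓ = 1
    rw [← map_pow, show a ^ ℓ = 1 from Subtype.ext (by rw [Subgroup.coe_pow, hexp _ a.2, Subgroup.coe_one]), map_one]
  -- the conjugates of the system of eigenvalues
  have hTA' : ∀ (k : ℕ) a, a ∈ A → (T ^ k)⁻¹ * a * T ^ k ∈ A := by
    have h1 : ∀ a, a ∈ A → T⁻¹ * a * T ∈ A := fun a ha => by
      have hmap : A.map (MulAut.conj T).toMonoidHom = A := by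
        have hle : A.map (MulAut.conj T).toMonoidHom ≤ A := by
          rintro _ ⟨b, hb, rfl⟩
          exact hTA b hb
        haveI : Finite V := Module.finite_of_finite F
        haveI : Finite (V ≃ₗ[F] V) := Finite.of_injective (fun g : V ≃ₗ[F] V => (g : V → V)) DFunLike.coe_injective
        exact Subgroup.eq_of_le_of_card_ge hle (le_of_eq
          (Nat.card_congr (Subgroup.equivMapOfInjective A _ (MulAut.conj T).injective).toEquiv))
      obtain ⟨b, hb, e⟩ := (hmap.symm ▸ ha : a ∈ A.map (MulAut.conj T).toMonoidHom)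
      rw [← e]
      simpa [mul_assoc] using hb
    intro k
    induction k with
    | zero => simp
    | succ k ih =>
      intro a ha
      have := h1 _ (ih a ha)
      rw [pow_succ]
      simpa [mul_assoc] using this
  let sh : ℕ → A → A := fun k a => ⟨(T ^ k)⁻¹ * a * T ^ k, hTA' k _ a.2⟩
  have hsh : ∀ i j a, sh i (sh j a) = sh (i + j) a := fun i j a => Subtype.ext (by
    show (T ^ i)⁻¹ * ((T ^ j)⁻¹ * a * T ^ j) * T ^ i = (T ^ (i + j))⁻¹ * a * T ^ (i + j)
    rw [pow_add, (Commute.pow_pow (Commute.refl T) i j).eq, _root_.mul_inv_rev]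
    simp only [mul_assoc])
  have hshp : ∀ a, sh p a = a := fun a => Subtype.ext (by simp [sh, hTp])
  have hop : ∀ (k : ℕ) (a : A), φ (a : V ≃ₗ[F] V) (φ (T ^ k) u) = χ (sh k a) • φ (T ^ k) u := fun k a => by
    rw [← hφmul, show (a : V ≃ₗ[F] V) * T ^ k = T ^ k * (sh k a : V ≃ₗ[F] V) by simp [sh, mul_assoc], hφmul, hu,
      map_smul]
  -- no shift preserves the system
  have hmove : ∀ d, 0 < d → d < p → ∃ a, χ (sh d a) ≠ χ a := fun d hd hdp => by
    by_contra hcon
    push Not at hcon
    have hinj : Function.Injective fun a : A => sh d a * a⁻¹ := fun a b e => by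
      have hC : sh d (a * b⁻¹) = a * b⁻¹ := by
        have e1 : sh d (a * b⁻¹) = sh d a * (sh d b)⁻¹ := Subtype.ext (by simp [sh, mul_assoc])
        have e2 : sh d a = sh d b * (b⁻¹ * a) := by
          have h0 : sh d a = sh d b * b⁻¹ * a := by
            have := congrArg (· * a) e
            simpa [mul_assoc] using this
          rw [h0, mul_assoc]
        rw [e1, e2]
        have hc : ∀ x y : A, x * y = y * x := fun x y => Subtype.ext (hcomm _ x.2 _ y.2)
        rw [hc (sh d b) (b⁻¹ * a), mul_assoc, mul_inv_cancel, mul_one, hc]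
      have hcd : Commute (T ^ d) ((a * b⁻¹ : A) : V ≃ₗ[F] V) := by
        have := congrArg (fun z : A => T ^ d * (z : V ≃ₗ[F] V)) hC
        simpa [sh, ← mul_assoc, Commute, SemiconjBy] using this.symm
      have hcop : Nat.Coprime d p := (hpf.out.coprime_iff_not_dvd.2
        fun h => absurd (Nat.le_of_dvd hd h) (by omega)).symm
      obtain ⟨m, hm⟩ : ∃ m, d * m % p = 1 := by
        obtain ⟨m, hm⟩ := Nat.exists_mul_mod_eq_one_of_coprime hcop hpf.out.one_lt
        exact ⟨m, hm.2⟩
      have hT : (T ^ d) ^ m = T := by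
        rw [← pow_mul, ← Nat.div_add_mod (d * m) p, pow_add, pow_mul, hTp, one_pow, one_mul, hm, pow_one]
      have h1 := hfix _ (a * b⁻¹).2 (hT ▸ (hcd.pow_left m)).eq
      exact mul_inv_eq_one.1 (Subtype.ext h1)
    haveI : Finite V := Module.finite_of_finite F
    haveI : Finite (V ≃ₗ[F] V) := Finite.of_injective (fun g : V ≃ₗ[F] V => (g : V → V)) DFunLike.coe_injective
    obtain ⟨a, ha⟩ := (Finite.injective_iff_surjective.1 hinj) b₀
    refine hχb ?_
    have hinv : χ (a⁻¹) * χ a = 1 := by rw [← hχmul, inv_mul_cancel, hχ1]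
    rw [← ha, hχmul, hcon, mul_comm, hinv]
  have hTne : ∀ k, φ (T ^ k) u ≠ 0 := fun k e => hu0 (by
    rw [← hφ1 u, ← inv_mul_cancel (T ^ k), hφmul, e, map_zero])
  rcases Nat.lt_or_ge p 5 with hp5 | hp5
  swap
  · -- four independent vectors in one relation of degree three
    let χf : Fin 4 → A → E := fun i a => χ (sh i a)
    have hd : Function.Injective χf := by
      intro i j e
      by_contra hne
      wlog hij : (i : ℕ) < j generalizing i j
      · exact this e.symm (fun h => hne h.symm) (by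
          have : (i : ℕ) ≠ j := fun h => hne (Fin.ext h)
          omega)
      obtain ⟨a, ha⟩ := hmove (j - i) (by omega) (by omega)
      refine ha ?_
      obtain ⟨b, rfl⟩ : ∃ b, sh i b = a := ⟨sh (p - i) a, by rw [hsh, show (i : ℕ) + (p - i) = p by omega, hshp]⟩
      have := congrFun e b
      simp only [χf] at this
      rw [hsh, show (j : ℕ) - i + i = j by omega, ← this]
    have hli := li_of_chars (fun a : A => φ (a : V ≃ₗ[F] V)) (fun i : Fin 4 => φ (T ^ (i : ℕ)) u) χf
      (fun i => hTne i) (fun i a => hop i a) hd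
    rw [Fintype.linearIndependent_iff] at hli
    have hrel : φ (T ^ 3) u + (3 : E) • φ (T ^ 1) u = (3 : E) • φ (T ^ 2) u + φ (T ^ 0) u := by
      have hL : ∀ k : ℕ, ∀ x, (LinearEquiv.automorphismGroup.toLinearMapMonoidHom (T ^ k) : V →ₗ[F] V) x = (T ^ k) x :=
        fun k x => rfl
      have h1 : ((T ^ 3 : V ≃ₗ[F] V) : V →ₗ[F] V) + (3 : F) • ((T ^ 1 : V ≃ₗ[F] V) : V →ₗ[F] V) =
          (3 : F) • ((T ^ 2 : V ≃ₗ[F] V) : V →ₗ[F] V) + ((T ^ 0 : V ≃ₗ[F] V) : V →ₗ[F] V) := LinearMap.ext fun x => by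
        simp only [LinearMap.add_apply, LinearMap.smul_apply, LinearEquiv.coe_coe, pow_succ, pow_zero, one_mul,
          LinearEquiv.mul_apply, LinearEquiv.coe_one, id_eq]
        exact hT3 x
      have h2 := congrArg (fun L : V →ₗ[F] V => ((LinearMap.toMatrixAlgEquiv B L).map (algebraMap F E)).mulVec u) h1
      simp only [map_add, map_smul, Matrix.map_add _ (map_add (algebraMap F E)),
        Matrix.map_smul' _ _ _ (map_mul (algebraMap F E)), Matrix.add_mulVec, Matrix.smul_mulVec,
        map_ofNat] at h2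
      exact h2
    have h0 := hli ![-1, 3, -3, 1] (by
      simp only [Fin.sum_univ_four, Matrix.cons_val_zero, Matrix.cons_val_one, Matrix.cons_val, Fin.val_zero,
        Fin.val_one, Fin.val_two, show ((3 : Fin 4) : ℕ) = 3 from rfl]
      linear_combination (norm := module) hrel) 0
    simp at h0
  -- characteristic three
  have hp3 : p = 3 := by
    have := hpf.out.two_le
    rcases (show p = 3 ∨ p = 4 by omega) with h | h
    · exact h
    · exact absurd (h ▸ hpf.out) (by decide)
  subst hp3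
  obtain ⟨he3, hedim⟩ := he rfl
  set q := Fintype.card F with hq
  set e := orderOf (q : ZMod ℓ)
  have he0 : 0 < e := Nat.pos_of_ne_zero fun h => he3 (h ▸ dvd_zero 3)
  obtain ⟨f, -, hqf⟩ := FiniteField.card F 3
  haveI : CharP E 3 := charP_of_injective_algebraMap (algebraMap F E).injective 3
  let Fr : ℕ → E →+* E := fun b => iterateFrobenius E 3 (f * b)
  have hFr : ∀ b x, Fr b x = x ^ q ^ b := fun b x => by
    simp only [Fr, iterateFrobenius_def, hq, hqf, pow_mul]
  have hFrF : ∀ b (x : F), Fr b (algebraMap F E x) = algebraMap F E x := fun b x => by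
    rw [hFr, ← map_pow, FiniteField.pow_card_pow]
  have hFrφ : ∀ b g x, φ g (Fr b ∘ x) = Fr b ∘ φ g x := fun b g x => by
    funext i
    simp only [φ, mulVecLin_apply, Function.comp_apply]
    rw [RingHom.map_mulVec]
    congr 1
    funext i j
    exact (hFrF b _).symm
  let ι := Option (Fin 3 × Fin e)
  let uu : ι → Fin n → E := fun i => i.elim (fun k => algebraMap F E (B.repr v₀ k))
    fun k => Fr k.2 ∘ φ (T ^ (k.1 : ℕ)) u
  let χχ : ι → A → E := fun i a => i.elim 1 fun k => χ (sh k.1 a) ^ q ^ (k.2 : ℕ)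
  have hv : ∀ a : A, φ (a : V ≃ₗ[F] V) (uu none) = uu none := fun a => by
    funext i
    simp only [uu, φ, Option.elim, mulVecLin_apply]
    have h1 := congrFun (LinearMap.toMatrix_mulVec_repr B B ((a : V ≃ₗ[F] V) : V →ₗ[F] V) v₀) i
    rw [LinearEquiv.coe_coe, hv₀A _ a.2] at h1
    conv_rhs => rw [← h1]
    rw [RingHom.map_mulVec]
    rfl
  have hqℓ : ∀ b c : ℕ, ∀ a : A, χ a ≠ 1 → χ a ^ b = χ a ^ c → (b : ZMod ℓ) = c := fun b c a ha h => by
    have ho : orderOf (χ a) = ℓ := orderOf_eq_prime (hχℓ a) ha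
    rw [ZMod.natCast_eq_natCast_iff, ← ho]
    exact (pow_eq_pow_iff_modEq' (ne_zero_of_pow (hχℓ a))).1 h
  have hqpow : ∀ m, (q : ZMod ℓ) ^ m = 1 → ∀ a, χ a ^ q ^ m = χ a := fun m hm a => by
    rcases eq_or_ne (χ a) 1 with h | h
    · rw [h, one_pow]
    · conv_rhs => rw [← pow_one (χ a)]
      refine (pow_eq_pow_iff_modEq' (ne_zero_of_pow (hχℓ a))).2 ?_
      rw [orderOf_eq_prime (hχℓ a) h, ← ZMod.natCast_eq_natCast_iff]
      push_cast
      exact hm
  have hne : ∀ d, d < 3 → ∀ b : ℕ, (∀ a, χ (sh d a) = χ a ^ q ^ b) → d = 0 := fun d hd b h => by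
    by_contra hd0
    have h2 : ∀ a, χ (sh (2 * d) a) = χ a ^ q ^ (2 * b) := fun a => by
      rw [two_mul, ← hsh, h, h, ← pow_mul, ← pow_add, two_mul]
    have h3 : ∀ a, χ a = χ a ^ q ^ (3 * b) := fun a => by
      have e3 : sh (d + 2 * d) a = a := by
        rw [show d + 2 * d = 3 * d by ring]
        exact Subtype.ext (by simp [sh, pow_mul, hTp])
      conv_lhs => rw [← e3, ← hsh, h, h2, ← pow_mul, ← pow_add]
      ring_nf
    have h4 := hqℓ 1 (q ^ (3 * b)) b₀ hχb (by rw [pow_one]; exact h3 b₀)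
    push_cast at h4
    have h5 : e ∣ 3 * b := orderOf_dvd_of_pow_eq_one h4.symm
    have h6 : e ∣ b := ((Nat.Prime.coprime_iff_not_dvd Nat.prime_three).2 he3).symm.dvd_of_dvd_mul_left h5
    obtain ⟨a, ha⟩ := hmove d (Nat.pos_of_ne_zero hd0) hd
    exact ha (by rw [h, hqpow _ (orderOf_dvd_iff_pow_eq_one.1 h6)])
  have hd : Function.Injective χχ := by
    have hsome : ∀ (i : Fin 3) (b : Fin e), ∃ a, χ (sh i a) ^ q ^ (b : ℕ) ≠ 1 := fun i b => by
      refine ⟨sh (3 - i) b₀, ?_⟩
      rw [hsh, show (i : ℕ) + (3 - i) = 3 by omega, hshp]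
      intro h1
      have hcard : 1 ≤ q ^ (b : ℕ) := Nat.one_le_pow _ _ Fintype.card_pos
      exact hχb (by
        have := congrArg (fun z => z ^ q ^ (e - b : ℕ)) h1
        simp only [one_pow, ← pow_mul, ← pow_add] at this
        rwa [show (b : ℕ) + (e - b) = e by omega, hqpow e (pow_orderOf_eq_one _)] at this)
    rintro (_ | ⟨i, b⟩) (_ | ⟨j, c⟩) h
    · rfl
    · obtain ⟨a, ha⟩ := hsome j c
      exact absurd (congrFun h a).symm ha
    · obtain ⟨a, ha⟩ := hsome i b
      exact absurd (congrFun h a) ha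
    · have h1 : ∀ a, χ (sh i a) = χ (sh j a) ^ q ^ ((c : ℕ) + (e - b)) := fun a => by
        have h2 := congrFun h a
        simp only [χχ, Option.elim] at h2
        rw [pow_add, pow_mul, ← h2, ← pow_mul, ← pow_add, show (b : ℕ) + (e - b) = e by omega,
          hqpow e (pow_orderOf_eq_one _)]
      have hij : i = j := by
        have h3 : ∀ a, χ (sh (((i : ℕ) + (3 - j)) % 3) a) = χ a ^ q ^ ((c : ℕ) + (e - b)) := fun a => by
          have h4 := h1 (sh (3 - j) a)
          rw [hsh, hsh, show (j : ℕ) + (3 - j) = 3 by omega, hshp] at h4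
          rw [← h4]
          congr 1
          refine Subtype.ext ?_
          show _ * _ * _ = _ * _ * _
          rw [pow_mod_of_pow_eq_one hTp]
        have := hne _ (Nat.mod_lt _ (by norm_num)) _ h3
        exact Fin.ext (by omega)
      subst hij
      have h5 := h1 (sh (3 - i) b₀)
      rw [hsh, show (i : ℕ) + (3 - i) = 3 by omega, hshp] at h5
      have h6 := hqℓ 1 (q ^ ((c : ℕ) + (e - b))) b₀ hχb (by rw [pow_one]; exact h5)
      push_cast at h6
      have h7 := orderOf_dvd_of_pow_eq_one h6.symm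
      have h8 : (c : ℕ) + (e - b) = e := by
        obtain ⟨k, hk⟩ := h7
        rcases k with _ | _ | k
        · omega
        · omega
        · have : e * 2 ≤ (c : ℕ) + (e - b) := hk ▸ Nat.mul_le_mul_left e (by omega)
          omega
      have : b = c := Fin.ext (by omega)
      subst this
      rfl
  have hli := li_of_chars (fun a : A => φ (a : V ≃ₗ[F] V)) uu χχ (by
      rintro (_ | ⟨i, b⟩)
      · intro h
        exact hv₀ (B.repr.injective (Finsupp.ext fun k => (algebraMap F E).injective (by simpa [uu] using congrFun h k)))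
      · intro h
        exact hTne i (funext fun k => (Fr b).injective (by simpa [uu] using congrFun h k)))
    (by
      rintro (_ | ⟨i, b⟩) a
      · simp only [χχ, Option.elim, one_smul]
        exact hv a
      · simp only [χχ, uu, Option.elim, hFrφ, hop]
        funext k
        simp [hFr, mul_pow]) hd
  have hcard := hli.fintype_card_le_finrank
  simp [ι, Module.finrank_fintype_fun_eq_card, Fintype.card_option] at hcard
  omega

end Cfsg.Agent.ClassicalMax.ExtOrth3.Rigid
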