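import Cfsg.Agent.ClassicalMax.ExtOrth3.Torus
import Cfsg.Agent.ClassicalMax.ExtOrth3.Rigid

/-!
If every element of an overgroup acting trivially on the three layers of a cone line `L = K v` commutes with the root
group of `L`, then the stabiliser of `v` in the overgroup has no element of a suitable prime order: the transfer to
the layer group gives a normal subgroup, a Sylow subgroup of it is normalised by a root element, and a root element
cannot act on it without fixed points.
-/

set_option autoImplicit false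
set_option linter.unusedSectionVars false
set_option linter.style.haveILetI false

namespace Cfsg.Agent.ClassicalMax.ExtOrth3

open Module QuadraticMap MulAction Cfsg.Agent.Classical Cfsg.Agent.Classical.Quad

variable {F K V : Type*} [Field F] [Field K] [Algebra F K] [AddCommGroup V] [Module F V] [Module K V]
  [IsScalarTower F K V] [Finite K] {Q : QuadraticForm F V} {QK : QuadraticForm K V} {l : K →ₗ[F] F}

/-- trivial on `K v` and on its orthogonal modulo `K v` -/
structure IsRad (QK : QuadraticForm K V) (v : V) (h : oG Q) : Prop where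
  fix : ∀ c : K, h.1 (c • v) = c • v
  perp : ∀ x, polar QK v x = 0 → ∃ c : K, h.1 x = x + c • v

/-- the element preserves the line `K v` -/
def StabL (K : Type*) [Field K] [Module K V] (v : V) (h : oG Q) : Prop := ∀ c : K, ∃ d : K, h.1 (c • v) = d • v

namespace Setting

theorem perp_of_stab (hS : Setting Q QK l) {o : oG Q} {v x : V} (ho : StabL K v o⁻¹)
    (hx : polar QK v x = 0) : polar QK v (o.1 x) = 0 := hS.sep0 fun c => by
  obtain ⟨d, hd⟩ := ho c
  rw [← smul_eq_mul, ← polar_smul_left, ← hS.polar_eq, ← polar_oG o⁻¹, hd, oG_inv_apply, hS.polar_eq, polar_smul_left,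
    hx, smul_zero, map_zero]

theorem perp_of_fix (hS : Setting Q QK l) {o : oG Q} {v x : V} (ho : ∀ c : K, o.1 (c • v) = c • v)
    (hx : polar QK v x = 0) : polar QK v (o.1 x) = 0 :=
  hS.perp_of_stab (fun c => ⟨c, by conv_lhs => rw [← ho c, oG_inv_apply]⟩) hx

/-- an element fixing a cone line pointwise moves vectors by the orthogonal -/
theorem sub_of_fix (hS : Setting Q QK l) {o : oG Q} {v : V} (ho : ∀ c : K, o.1 (c • v) = c • v) (x : V) :
    polar QK v (o.1 x - x) = 0 := hS.sep0 fun c => by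
  rw [← smul_eq_mul, ← polar_smul_left, ← hS.polar_eq, polar_sub_right, sub_eq_zero]
  nth_rw 1 [← ho c]
  rw [polar_oG]

end Setting

theorem StabL.inv {v : V} {h : oG Q} (hh : StabL K v h) (hv : v ≠ 0) : StabL K v h⁻¹ := fun c => by
  choose d hd using hh
  have hinj : Function.Injective d := fun a b e => smul_left_injective K hv (h.1.injective (by rw [hd, hd, e]))
  obtain ⟨e, he⟩ := (Finite.injective_iff_surjective.1 hinj) c
  exact ⟨e, by rw [← he, ← hd, oG_inv_apply]⟩

theorem IsRad.stab {v : V} {h : oG Q} (hh : IsRad QK v h) : StabL K v h := fun c => ⟨c, hh.fix c⟩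

variable {v y w : V}

theorem IsRad.cube (hS : Setting Q QK l) {h : oG Q} (hh : IsRad QK v h) (x : V) :
    ∀ k : ℕ, ∃ c : K, h.1 (h.1 x - x) = (h.1 x - x) + c • v ∧
      (h ^ k).1 x = x + (k : F) • (h.1 x - x) + (k.choose 2 : F) • (c • v) := by
  intro k
  obtain ⟨c, hc⟩ := hh.perp _ (hS.sub_of_fix hh.fix x)
  refine ⟨c, hc, ?_⟩
  induction k with
  | zero => simp
  | succ k ih =>
    rw [pow_succ', oG_mul_apply, ih, map_add, map_add, map_smul, map_smul, hc, hh.fix, Nat.choose_succ_succ,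
      Nat.choose_one_right]
    push_cast
    rw [show h.1 x = x + (h.1 x - x) by abel]
    match_scalars <;> ring

theorem IsRad.pow_char (hS : Setting Q QK l) {h : oG Q} (hh : IsRad QK v h) (p : ℕ) [hp : Fact p.Prime] [CharP F p] :
    h ^ p = 1 := ext_oG fun x => by
  obtain ⟨c, -, e⟩ := hh.cube hS x p
  have hp2 : p ≠ 2 := fun e => hS.two (by subst e; exact CharP.ofNat_eq_zero F 2)
  have h2 : ((p.choose 2 : ℕ) : F) = 0 := (CharP.cast_eq_zero_iff F p _).2
    (hp.out.dvd_choose_self two_ne_zero (lt_of_le_of_ne hp.out.two_le (Ne.symm hp2)))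
  rw [e, CharP.cast_eq_zero F p, h2, zero_smul, zero_smul, add_zero, add_zero, oG_one_apply]

/-- the determinant of an isometry -/
noncomputable def detG (Q : QuadraticForm F V) : oG Q →* Fˣ := LinearEquiv.det.comp (oG Q).subtype

theorem IsRad.detG (hS : Setting Q QK l) {h : oG Q} (hh : IsRad QK v h) : detG Q h = 1 := by
  obtain ⟨p, hc⟩ := CharP.exists F
  haveI : Finite F := Finite.of_injective _ (algebraMap F K).injective
  haveI : Fact p.Prime := ⟨CharP.char_is_prime F p⟩
  have h1 := congrArg (ExtOrth3.detG Q) (hh.pow_char hS p)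
  rw [map_pow, map_one, Units.ext_iff, Units.val_pow_eq_pow_val, Units.val_one] at h1
  refine Units.ext (frobenius_inj F p ?_)
  simpa [frobenius_def] using h1

theorem detG_res (hS : Setting Q QK l) {k : oG QK} (hk : k ∈ commutator (oG QK)) : detG Q (res hS k) = 1 :=
  (Abelianization.commutator_subset_ker ((detG Q).comp (res hS))) hk

theorem tr_isRad (hS : Setting Q QK l) (fr : Frame QK v y w) (t : K) : IsRad QK v (tr hS fr t) :=
  ⟨tr_fix hS fr t, fun _ hx => ⟨_, tr_perp hS fr t hx⟩⟩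

theorem detG_refl (hS : Setting Q QK l) (fr : Frame QK v y w) : detG Q (res hS (rO fr.hw)) ≠ 1 := by
  classical
  haveI := hS.fin
  haveI := hS.finVF
  haveI := hS.finV
  have hli : LinearIndependent K ![v, y, w] := by
    rw [Fintype.linearIndependent_iff]
    intro g hg
    have e : g 0 • v + g 1 • y + g 2 • w = 0 := by simpa [Fin.sum_univ_three] using hg
    obtain ⟨e1, e2, e3, -⟩ := fr.eval (g 0) (g 1) (g 2)
    rw [e] at e1 e2 e3
    have z : ∀ u : V, polar QK u 0 = 0 := fun u => by simp [polar]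
    rw [z] at e1 e2 e3
    have e4 : g 2 = 0 := (mul_eq_zero.1 e3.symm).resolve_left (mul_ne_zero hS.twoK fr.hw)
    intro i
    fin_cases i <;> simp [← e1, ← e2, e4]
  let bK := basisOfLinearIndependentOfCardEqFinrank hli (by rw [hS.three]; rfl)
  let bF := (Module.finBasis F K).smulTower bK
  let ε : Fin 3 → F := ![1, 1, -1]
  have hb : ∀ j, bK j = ![v, y, w] j := fun j => by simp [bK]
  have hρ : ∀ i : Fin (finrank F K) × Fin 3, (res hS (rO fr.hw)).1 (bF i) = ε i.2 • bF i := by
    rintro ⟨i, j⟩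
    simp only [bF, Basis.smulTower_apply, hb]
    rw [res_apply, map_smul]
    fin_cases j <;>
      simp [ε, rO_apply, fr.hvw, fr.hyw, polar_comm QK w, polar_self', fr.hw, two_smul]
    all_goals
      rw [add_div, div_self fr.hw]
      module
  have hmat : LinearMap.toMatrix bF bF ((res hS (rO fr.hw)).1 : V →ₗ[F] V) = Matrix.diagonal fun i => ε i.2 := by
    ext i j
    rw [LinearMap.toMatrix_apply, LinearEquiv.coe_coe, hρ, map_smul, Basis.repr_self, Matrix.diagonal_apply,
      Finsupp.smul_apply, Finsupp.single_apply]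
    split_ifs with h1 h2 h2
    · subst h1; simp
    · exact absurd h1.symm h2
    · exact absurd h2.symm h1
    · simp
  have hodd : Odd (finrank F K) := hS.prime.odd_of_ne_two hS.ne_two
  have hdet : LinearMap.det ((res hS (rO fr.hw)).1 : V →ₗ[F] V) = -1 := by
    rw [← LinearMap.det_toMatrix bF, hmat, Matrix.det_diagonal, Fintype.prod_prod_type]
    simp [ε, Fin.prod_univ_three, hodd.neg_one_pow]
  intro h
  have h' : LinearMap.det ((res hS (rO fr.hw)).1 : V →ₗ[F] V) = 1 := by
    rw [← LinearEquiv.coe_det]; exact congrArg Units.val h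
  rw [hdet] at h'
  exact hS.two (by linear_combination -h')

/-- the layer group of `K v` inside `H` -/
def rad (hS : Setting Q QK l) (H : Subgroup (oG Q)) (v : V) : Subgroup (oG Q) where
  carrier := {h | h ∈ H ∧ IsRad QK v h}
  one_mem' := ⟨one_mem H, fun c => rfl, fun x _ => ⟨0, by rw [zero_smul, add_zero]; rfl⟩⟩
  mul_mem' := fun {a b} ha hb => ⟨mul_mem ha.1 hb.1, fun c => by rw [oG_mul_apply, hb.2.fix, ha.2.fix], fun x hx => by
    obtain ⟨c, hc⟩ := hb.2.perp x hx
    obtain ⟨d, hd⟩ := ha.2.perp x hx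
    exact ⟨d + c, by rw [oG_mul_apply, hc, map_add, hd, ha.2.fix, add_smul, add_assoc]⟩⟩
  inv_mem' := fun {a} ha => by
    have hfix : ∀ c : K, (a⁻¹).1 (c • v) = c • v := fun c => by conv_lhs => rw [← ha.2.fix c, oG_inv_apply]
    refine ⟨inv_mem ha.1, hfix, fun x hx => ?_⟩
    obtain ⟨c, hc⟩ := ha.2.perp x hx
    refine ⟨-c, a.1.injective ?_⟩
    rw [oG_apply_inv, map_add, hc, ha.2.fix, neg_smul, add_neg_cancel_right]

theorem mem_rad {hS : Setting Q QK l} {H : Subgroup (oG Q)} {v : V} {h : oG Q} :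
    h ∈ rad hS H v ↔ h ∈ H ∧ IsRad QK v h := Iff.rfl

theorem tr_mem_rad (hS : Setting Q QK l) (fr : Frame QK v y w) {H : Subgroup (oG Q)} (hle : Le hS H) (t : K) :
    tr hS fr t ∈ rad hS H v := ⟨tr_mem hS fr hle t, tr_isRad hS fr t⟩

theorem conj_rad (hS : Setting Q QK l) {H : Subgroup (oG Q)} (hv : v ≠ 0) {n S : oG Q} (hn : n ∈ H)
    (hst : StabL K v n) (hSr : S ∈ rad hS H v) : n * S * n⁻¹ ∈ rad hS H v := by
  have hst' := hst.inv hv
  refine ⟨mul_mem (mul_mem hn hSr.1) (inv_mem hn), fun c => ?_, fun x hx => ?_⟩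
  · obtain ⟨d, hd⟩ := hst' c
    rw [oG_mul_apply, oG_mul_apply, hd, hSr.2.fix, ← hd, oG_apply_inv]
  · obtain ⟨c, hc⟩ := hSr.2.perp _ (hS.perp_of_stab (o := n⁻¹) (by rwa [inv_inv]) hx)
    obtain ⟨d, hd⟩ := hst c
    exact ⟨d, by rw [oG_mul_apply, oG_mul_apply, hc, map_add, oG_apply_inv, hd]⟩

/-- the layer group commutes with the root group -/
def Comm (hS : Setting Q QK l) (H : Subgroup (oG Q)) (fr : Frame QK v y w) : Prop :=
  ∀ S ∈ rad hS H v, ∀ t, tr hS fr t * S = S * tr hS fr t

/-- the parameter of an element of the layer group -/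
def chi (QK : QuadraticForm K V) (y w : V) (S : oG Q) : K := polar QK y (S.1 w) / (2 * QK w)

theorem chi_tr (hS : Setting Q QK l) (fr : Frame QK v y w) (t : K) : chi QK y w (tr hS fr t) = t := by
  rw [chi, tr_perp hS fr t fr.hvw, polar_add_right, fr.hyw, polar_smul_right, polar_comm QK y v, fr.hvy,
    polar_self', smul_eq_mul, zero_add, mul_one, mul_div_assoc, div_self (mul_ne_zero hS.twoK fr.hw), mul_one]

theorem IsRad.apply_w1 (hS : Setting Q QK l) (fr : Frame QK v y w) {S : oG Q} (h : IsRad QK v S) :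
    S.1 w = w + (2 * QK w * chi QK y w S) • v := by
  obtain ⟨c, hc⟩ := h.perp w fr.hvw
  rw [chi, hc, polar_add_right, fr.hyw, polar_smul_right, polar_comm QK y v, fr.hvy, smul_eq_mul, mul_one, zero_add,
    mul_div_cancel₀ _ (mul_ne_zero hS.twoK fr.hw)]

theorem chi_mul (hS : Setting Q QK l) (fr : Frame QK v y w) {S S' : oG Q} (h : IsRad QK v S) (h' : IsRad QK v S') :
    chi QK y w (S * S') = chi QK y w S + chi QK y w S' := by
  have h2 : (2 * QK w) ≠ 0 := mul_ne_zero hS.twoK fr.hw
  rw [chi, oG_mul_apply, h'.apply_w1 hS fr, map_add, h.fix, h.apply_w1 hS fr, polar_add_right, polar_add_right,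
    fr.hyw, polar_smul_right, polar_smul_right, polar_comm QK y v, fr.hvy, smul_eq_mul, smul_eq_mul, mul_one, mul_one,
    zero_add, add_div, mul_div_cancel_left₀ _ h2, mul_div_cancel_left₀ _ h2]

section Comm

variable {H : Subgroup (oG Q)} {hS : Setting Q QK l} {fr : Frame QK v y w}

theorem Comm.apply (hC : Comm hS H fr) {S : oG Q} (hSr : S ∈ rad hS H v) (b : K) :
    S.1 (b • w) = b • w + (2 * QK w * b * chi QK y w S) • v ∧
      polar QK w (S.1 (b • y)) = -(2 * QK w * b * chi QK y w S) := by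
  have hh := hSr.2
  have hS2 : ∀ (t : K) (x : V), (tr hS fr t).1 (S.1 x) = S.1 ((tr hS fr t).1 x) := fun t x => by
    rw [← oG_mul_apply, hC S hSr t, oG_mul_apply]
  have key : ∀ t b : K, ∃ δ : V, S.1 (b • y) = b • y + δ ∧ polar QK v δ = 0 ∧
      S.1 ((t * b) • w) = (t * b) • w + (-(t * polar QK δ w)) • v := fun t b => by
    set δ := S.1 (b • y) - b • y with hδd
    have hδ : polar QK v δ = 0 := hS.sub_of_fix hh.fix _
    have e : S.1 (b • y) = b • y + δ := by rw [hδd]; abel
    refine ⟨δ, e, hδ, ?_⟩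
    have h1 := hS2 t (b • y)
    rw [tr_y, map_sub, map_add, hh.fix, e, map_add, tr_y, tr_perp hS fr t hδ] at h1
    linear_combination (norm := module) h1
  have h1 : polar QK w (S.1 y) = -(2 * QK w * chi QK y w S) := by
    obtain ⟨δ, hδ, -, h3⟩ := key 1 1
    rw [one_smul] at hδ
    rw [mul_one, one_smul, hh.apply_w1 hS fr, one_mul] at h3
    have := smul_left_injective K fr.v_ne (add_left_cancel h3)
    rw [hδ, polar_add_right, polar_comm QK w y, fr.hyw, polar_comm QK w δ, zero_add]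
    linear_combination this
  have hw : ∀ b : K, S.1 (b • w) = b • w + (2 * QK w * b * chi QK y w S) • v := fun b => by
    obtain ⟨δ, hδ, -, h3⟩ := key b 1
    rw [one_smul] at hδ
    rw [hδ, polar_add_right, polar_comm QK w y, fr.hyw, polar_comm QK w δ, zero_add] at h1
    rw [mul_one, h1] at h3
    rw [h3]
    congr 2
    ring
  refine ⟨hw b, ?_⟩
  obtain ⟨δ, hδ, -, h3⟩ := key 1 b
  rw [one_mul, hw, one_mul] at h3
  have := smul_left_injective K fr.v_ne (add_left_cancel h3)
  rw [hδ, polar_add_right, polar_smul_right, polar_comm QK w y, fr.hyw, smul_zero, zero_add, polar_comm QK w δ]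
  linear_combination this

theorem Comm.fix_line (hC : Comm hS H fr) {S : oG Q} (hSr : S ∈ rad hS H v) (hχ : chi QK y w S ≠ 0) {x : V}
    (hx : S.1 x = x) : ∃ a : K, x = a • v := by
  have h2 : (2 * QK w) ≠ 0 := mul_ne_zero hS.twoK fr.hw
  have e := fr.decomp hS x
  set a := polar QK y x
  set b := polar QK v x
  set c := polar QK w x / (2 * QK w)
  have hb : b = 0 := by
    have h1 := congrArg (polar QK w) hx
    rw [e, map_add, map_add, hSr.2.fix, (hC.apply hSr c).1, polar_add_right, polar_add_right, (hC.apply hSr b).2,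
      polar_add_right, polar_add_right, polar_add_right, polar_smul_right, polar_smul_right, polar_smul_right,
      polar_smul_right, polar_comm QK w v, fr.hvw, polar_comm QK w y, fr.hyw] at h1
    simp only [smul_zero, add_zero, zero_add, smul_eq_mul] at h1
    exact (mul_eq_zero.1 (show b * (2 * QK w * chi QK y w S) = 0 by linear_combination -h1)).resolve_right
      (mul_ne_zero h2 hχ)
  rw [hb, zero_smul, add_zero] at e
  rw [e, map_add, hSr.2.fix, (hC.apply hSr c).1, ← add_assoc, add_eq_left, smul_eq_zero, or_iff_left fr.v_ne,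
    mul_eq_zero, mul_eq_zero, or_iff_left hχ, or_iff_right h2] at hx
  exact ⟨a, by rw [e, hx, zero_smul, add_zero]⟩

theorem Comm.stab_of_conj (hC : Comm hS H fr) {g T : oG Q} (hT : T ∈ rad hS H v) (hTχ : chi QK y w T ≠ 0)
    (hm : g⁻¹ * T * g ∈ rad hS H v) : StabL K v g := fun c => by
  refine hC.fix_line hT hTχ ?_
  have := congrArg g.1 (hm.2.fix c)
  rwa [oG_mul_apply, oG_mul_apply, oG_apply_inv] at this

/-- the action of an element stabilising `K v` and fixing `v` -/
theorem Comm.data (hC : Comm hS H fr) (hle : Le hS H) {n : oG Q} (hn : n ∈ H) (hst : StabL K v n) (hnv : n.1 v = v) :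
    ∃ (k : K) (σ : K →ₐ[F] K), k ≠ 0 ∧ (∀ c, n.1 (c • v) = σ c • v) ∧
      (∀ s, chi QK y w (n * tr hS fr s * n⁻¹) = k * σ s) ∧
      ∀ t, σ (polar QK ((n⁻¹).1 (t • w)) w) = 2 * QK w * t * k := by
  have hst0 := hst
  choose A hA using hst0
  have h2 : (2 * QK w) ≠ 0 := mul_ne_zero hS.twoK fr.hw
  have hv := fr.v_ne
  set χ := fun s : K => chi QK y w (n * tr hS fr s * n⁻¹) with hχd
  set φ := fun t : K => polar QK ((n⁻¹).1 (t • w)) w with hφd
  have hmain : ∀ s t, A (s * φ t) = 2 * QK w * t * χ s := fun s t => by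
    have hm := conj_rad hS hv hn hst (tr_mem_rad hS fr hle s)
    have h1 := (hC.apply hm t).1
    have hp : polar QK v ((n⁻¹).1 (t • w)) = 0 :=
      hS.perp_of_stab (by rw [inv_inv]; exact hst) (polar_perp_smul fr.hvw t)
    rw [oG_mul_apply, oG_mul_apply, tr_perp hS fr s hp, map_add, oG_apply_inv, hA] at h1
    exact smul_left_injective K hv (add_left_cancel h1)
  have hA1 : A 1 = 1 := smul_left_injective K hv (by
    show A 1 • v = (1 : K) • v
    rw [← hA, one_smul, hnv])
  have hA0 : A 0 = 0 := smul_left_injective K hv (by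
    show A 0 • v = (0 : K) • v
    rw [← hA, zero_smul, map_zero])
  have hχ1 : χ 1 ≠ 0 := fun e => by
    have hm := conj_rad hS hv hn hst (tr_mem_rad hS fr hle 1)
    have h1 := (hC.apply hm 1).1
    simp only [χ] at e
    rw [e, mul_zero, zero_smul, add_zero, one_smul, oG_mul_apply, oG_mul_apply] at h1
    obtain ⟨a, ha⟩ := hC.fix_line (tr_mem_rad hS fr hle 1) (by rw [chi_tr]; exact one_ne_zero)
      (x := (n⁻¹).1 w) (n.1.injective (by rw [h1, oG_apply_inv]))
    have h3 := congrArg n.1 ha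
    rw [oG_apply_inv, hA] at h3
    exact fr.hw (by rw [h3, map_smul', fr.hv, mul_zero])
  have hφ : Function.Surjective φ := Finite.surjective_of_injective fun t t' e => by
    have h1 := hmain 1 t
    rw [e, hmain 1 t'] at h1
    exact (mul_left_cancel₀ h2 (mul_right_cancel₀ hχ1 h1)).symm
  have hsc : ∀ s c, A (s * c) * χ 1 = A c * χ s := fun s c => by
    obtain ⟨t, rfl⟩ := hφ c
    have h1 := hmain 1 t
    rw [one_mul] at h1
    rw [hmain, h1]
    ring
  have hχA : ∀ s, χ s = χ 1 * A s := fun s => by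
    have := hsc s 1
    rw [mul_one, hA1, one_mul] at this
    rw [← this, mul_comm]
  have hmul : ∀ a b, A (a * b) = A a * A b := fun a b => mul_right_cancel₀ hχ1 (by rw [hsc, hχA a]; ring)
  have hadd : ∀ a b, A (a + b) = A a + A b := fun a b => smul_left_injective K hv (by
    show A (a + b) • v = (A a + A b) • v
    rw [← hA, add_smul, map_add, add_smul, hA, hA])
  let σ : K →ₐ[F] K :=
    { toFun := A
      map_one' := hA1
      map_mul' := hmul
      map_zero' := hA0
      map_add' := hadd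
      commutes' := fun f => smul_left_injective K hv (by
        show A (algebraMap F K f) • v = algebraMap F K f • v
        rw [← hA, algebraMap_smul, map_smul, hnv]) }
  refine ⟨χ 1, σ, hχ1, hA, hχA, fun t => ?_⟩
  have := hmain 1 t
  rw [one_mul] at this
  exact this

end Comm

/-- the stabiliser of `v` of determinant one -/
noncomputable def stabV (Q : QuadraticForm F V) (H : Subgroup (oG Q)) (v : V) : Subgroup (oG Q) where
  carrier := {h | h ∈ H ∧ h.1 v = v ∧ detG Q h = 1}
  one_mem' := ⟨one_mem H, rfl, map_one _⟩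
  mul_mem' := fun {a b} ha hb => ⟨mul_mem ha.1 hb.1, by rw [oG_mul_apply, hb.2.1, ha.2.1],
    by rw [map_mul, ha.2.2, hb.2.2, mul_one]⟩
  inv_mem' := fun {a} ha => ⟨inv_mem ha.1, by conv_lhs => rw [← ha.2.1, oG_inv_apply],
    by rw [map_inv, ha.2.2, inv_one]⟩

theorem rad_le_stabV (hS : Setting Q QK l) (H : Subgroup (oG Q)) : rad hS H v ≤ stabV Q H v :=
  fun h hh => ⟨hh.1, by simpa using hh.2.fix 1, hh.2.detG hS⟩

section Contra

variable {H : Subgroup (oG Q)} {hS : Setting Q QK l} {fr : Frame QK v y w}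

/-- an element centralising an element of non-zero parameter has no order prime to `p r` -/
theorem Comm.eq_one (hC : Comm hS H fr) (hle : Le hS H) {ℓ p : ℕ} [hl : Fact ℓ.Prime] [Fact p.Prime] [CharP F p]
    (hlp : ℓ ≠ p) (hlr : ℓ ≠ finrank F K) {a S : oG Q} (ha : a ∈ stabV Q H v) (haℓ : a ^ ℓ = 1)
    (hSr : S ∈ rad hS H v) (hSχ : chi QK y w S ≠ 0) (hcomm : S * a = a * S) : a = 1 := by
  haveI := hS.fin
  have h2 : (2 * QK w) ≠ 0 := mul_ne_zero hS.twoK fr.hw
  have hst : StabL K v a := fun c => hC.fix_line hSr hSχ (by rw [← oG_mul_apply, hcomm, oG_mul_apply, hSr.2.fix])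
  obtain ⟨k, σ, -, hσ, -, -⟩ := hC.data hle ha.1 hst ha.2.1
  let e : K ≃ₐ[F] K := AlgEquiv.ofBijective σ
    ⟨σ.toRingHom.injective, Finite.surjective_of_injective σ.toRingHom.injective⟩
  have hpow : ∀ (m : ℕ) (c : K), (a ^ m).1 (c • v) = (e ^ m) c • v := fun m => by
    induction m with
    | zero => intro c; rfl
    | succ m ih => intro c; rw [pow_succ, oG_mul_apply, hσ, ih, pow_succ]; rfl
  have he1 : e ^ ℓ = 1 := AlgEquiv.ext fun c => by
    have := hpow ℓ c
    rw [haℓ, oG_one_apply] at this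
    exact (smul_left_injective K fr.v_ne this).symm
  haveI : Finite F := Finite.of_injective _ (algebraMap F K).injective
  have hcard : Nat.card (K ≃ₐ[F] K) = finrank F K := IsGalois.card_aut_eq_finrank F K
  have he : e = 1 := orderOf_eq_one_iff.1 (Nat.eq_one_of_dvd_coprimes
    ((Nat.coprime_primes hl.out hS.prime).2 hlr) (orderOf_dvd_of_pow_eq_one he1)
    (hcard ▸ orderOf_dvd_natCard e))
  have hfix : ∀ c : K, a.1 (c • v) = c • v := fun c => by
    rw [hσ, show σ c = e c from rfl, he, AlgEquiv.one_apply]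
  have hrad : IsRad QK v a := by
    refine ⟨hfix, fun x hx => ?_⟩
    obtain ⟨α, t, rfl⟩ := fr.perp hS hx
    obtain ⟨α', γ, hγ⟩ := fr.perp hS (hS.perp_of_fix hfix (polar_perp_smul fr.hvw t))
    have h1 := congrArg (fun g : oG Q => g.1 (t • w)) hcomm
    simp only [oG_mul_apply, (hC.apply hSr t).1, hγ, map_add, hfix, hSr.2.fix, (hC.apply hSr γ).1] at h1
    have h3 : (2 * QK w * γ * chi QK y w S) • v = (2 * QK w * t * chi QK y w S) • v := by
      linear_combination (norm := module) h1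
    have hγt : γ = t := mul_left_cancel₀ h2 (mul_right_cancel₀ hSχ (smul_left_injective K fr.v_ne h3))
    exact ⟨α', by rw [map_add, hfix, hγ, hγt]; abel⟩
  exact orderOf_eq_one_iff.1 (Nat.eq_one_of_dvd_coprimes ((Nat.coprime_primes hl.out (Fact.out : p.Prime)).2 hlp)
    (orderOf_dvd_of_pow_eq_one haℓ) (orderOf_dvd_of_pow_eq_one (hrad.pow_char hS p)))

/-- an element fixing `K v` pointwise in the stabiliser is in the layer group -/
theorem Comm.mem_rad_of_fix (hC : Comm hS H fr) (hle : Le hS H) {n : oG Q} (hn : n ∈ stabV Q H v)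
    (hfix : ∀ c : K, n.1 (c • v) = c • v) : n ∈ rad hS H v := by
  have h2 : (2 * QK w) ≠ 0 := mul_ne_zero hS.twoK fr.hw
  have hfix' : ∀ c : K, (n⁻¹).1 (c • v) = c • v := fun c => by conv_lhs => rw [← hfix c, oG_inv_apply]
  obtain ⟨k, σ, -, hσ, -, hφ⟩ := hC.data hle hn.1 (fun c => ⟨c, hfix c⟩) hn.2.1
  have hσ1 : ∀ c, σ c = c := fun c => smul_left_injective K fr.v_ne (by
    show σ c • v = c • v
    rw [← hσ, hfix])
  have hγ : ∀ t : K, ∃ α : K, (n⁻¹).1 (t • w) = α • v + (t * k) • w := fun t => by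
    obtain ⟨α, γ, hγ⟩ := fr.perp hS (hS.perp_of_fix hfix' (polar_perp_smul fr.hvw t))
    refine ⟨α, ?_⟩
    have h := hφ t
    rw [hσ1, hγ, polar_add_left, polar_smul_left, polar_smul_left, fr.hvw, polar_self', smul_zero, zero_add,
      smul_eq_mul] at h
    rw [hγ]
    congr 2
    exact mul_left_cancel₀ h2 (by linear_combination h)
  have hsq : ∀ t : K, l ((t * t) * (QK w * (k * k))) = l ((t * t) * QK w) := fun t => by
    obtain ⟨α, hα⟩ := hγ t
    have h1 : Q ((n⁻¹).1 (t • w)) = Q (t • w) := (n⁻¹).2 _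
    rw [hα, hS.eq, hS.eq, map_smul', map_add', map_smul', map_smul', polar_smul_left, polar_smul_right, fr.hvw,
      fr.hv] at h1
    simp only [smul_zero, mul_zero, add_zero, zero_add] at h1
    convert h1 using 2
    ring
  have hk : k * k = 1 := by
    have hz : QK w * (k * k) = QK w := by
      refine hS.sep fun c => ?_
      have ha := hsq (c + 1)
      have hb := hsq c
      have hc := hsq 1
      rw [show (c + 1) * (c + 1) = c * c + (c + c) + 1 * 1 by ring, add_mul, add_mul, add_mul, add_mul, map_add,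
        map_add, map_add, map_add] at ha
      rw [hb, hc] at ha
      have h3 : (2 : F) • l (c * (QK w * (k * k))) = (2 : F) • l (c * QK w) := by
        rw [add_mul, add_mul, map_add, map_add] at ha
        rw [two_smul, two_smul]
        linear_combination ha
      exact smul_right_injective F hS.two h3
    exact mul_left_cancel₀ fr.hw (by rw [hz, mul_one])
  rcases mul_self_eq_one_iff.1 hk with rfl | rfl
  · have : n⁻¹ ∈ rad hS H v := by
      refine ⟨inv_mem hn.1, hfix', fun x hx => ?_⟩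
      obtain ⟨a, c, rfl⟩ := fr.perp hS hx
      obtain ⟨α, hα⟩ := hγ c
      exact ⟨α, by rw [map_add, hfix', hα, mul_one]; abel⟩
    simpa using inv_mem this
  · exfalso
    set ρ := res hS (rO fr.hw)
    have hρv : ∀ c : K, ρ.1 (c • v) = c • v := fun c => by
      rw [res_apply, rO_apply, polar_smul_left, fr.hvw]; simp
    have hm : IsRad QK v (n⁻¹ * ρ) := by
      refine ⟨fun c => by rw [oG_mul_apply, hρv, hfix'], fun x hx => ?_⟩
      obtain ⟨a, c, rfl⟩ := fr.perp hS hx
      obtain ⟨α, hα⟩ := hγ (-c)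
      refine ⟨α, ?_⟩
      have hρw : ρ.1 (c • w) = (-c) • w := by
        rw [res_apply, rO_apply, polar_smul_left, polar_self', smul_eq_mul, ← mul_assoc, mul_div_cancel_right₀ _ fr.hw]
        module
      rw [oG_mul_apply, map_add, hρv, hρw, map_add, hfix', hα, show (-c * -1 : K) = c by ring]
      abel
    have := hm.detG hS
    rw [map_mul, map_inv, hn.2.2, inv_one, one_mul] at this
    exact detG_refl hS fr this

set_option maxHeartbeats 2000000 in
/-- the overgroup has no element of suitable prime order fixing `v` -/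
theorem Comm.false_of_elem [Fintype F] (hC : Comm hS H fr) (hle : Le hS H) {ℓ : ℕ} (hℓ : ℓ.Prime)
    (hℓr : ℓ ≠ finrank F K) (hℓq : ¬ ℓ ∣ Fintype.card F) (h3 : ¬ 3 ∣ orderOf (Fintype.card F : ZMod ℓ))
    (he : finrank F K ≤ orderOf (Fintype.card F : ZMod ℓ)) {z : oG Q} (hz : z ∈ stabV Q H v) (hzℓ : z ^ ℓ = 1)
    (hz1 : z ≠ 1) : False := by
  classical
  haveI := hS.fin
  haveI := hS.finV
  haveI := hS.finVF
  haveI : Finite V := Module.finite_of_finite F
  haveI : Finite (V ≃ₗ[F] V) := Finite.of_injective (fun g : V ≃ₗ[F] V => (g : V → V)) DFunLike.coe_injective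
  haveI : Finite (oG Q) := Subtype.finite
  haveI := Fact.mk hℓ
  obtain ⟨p, hchar⟩ := CharP.exists F
  haveI hpf : Fact p.Prime := ⟨CharP.char_is_prime F p⟩
  haveI : CharP K p := charP_of_injective_algebraMap (algebraMap F K).injective p
  have hlp : ℓ ≠ p := fun e => hℓq (by
    obtain ⟨n, -, hn⟩ := FiniteField.card F p
    exact hn ▸ e ▸ dvd_pow_self p n.ne_zero)
  set G := stabV Q H v
  let R : Subgroup G := (rad hS H v).subgroupOf G
  have hR : ∀ g : G, g ∈ R ↔ (g : oG Q) ∈ rad hS H v := fun g => Subgroup.mem_subgroupOf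
  let ϕ : R →* Multiplicative K :=
    { toFun := fun g => Multiplicative.ofAdd (chi QK y w ((g : G) : oG Q))
      map_one' := by simp [chi, fr.hyw, oG_one_apply]
      map_mul' := fun g g' => by
        rw [← ofAdd_add, ← chi_mul hS fr ((hR _).1 g.2).2 ((hR _).1 g'.2).2]; rfl }
  set Tr := MonoidHom.transfer ϕ with hTr
  let T : K → G := fun t => ⟨tr hS fr t, rad_le_stabV hS H (tr_mem_rad hS fr hle t)⟩
  have hpK : ∀ t : K, (T t) ^ p = 1 := fun t => Subtype.ext ((tr_isRad hS fr t).pow_char hS p)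
  -- fixed cosets
  haveI : Fintype (G ⧸ R) := Fintype.ofFinite _
  let Fix : Finset (G ⧸ R) := Finset.univ.filter fun x => StabL K v ((x.out : G) : oG Q)
  have hfixiff : ∀ {t : K}, t ≠ 0 → ∀ x : G ⧸ R, T t • x = x ↔ x ∈ Fix := fun {t} ht x => by
    simp only [Fix, Finset.mem_filter, Finset.mem_univ, true_and]
    conv_lhs => rw [← QuotientGroup.out_eq' x]
    rw [MulAction.Quotient.smul_coe, smul_eq_mul, eq_comm, QuotientGroup.eq, hR]
    simp only [Subgroup.coe_mul, Subgroup.coe_inv, ← mul_assoc]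
    refine ⟨fun h => hC.stab_of_conj (tr_mem_rad hS fr hle t) (by rw [chi_tr]; exact ht) ?_, fun h => ?_⟩
    · simpa [mul_assoc] using h
    · have := conj_rad hS fr.v_ne (inv_mem x.out.2.1) (h.inv fr.v_ne) (tr_mem_rad hS fr hle t)
      simpa [mul_assoc] using this
  have hdat : ∀ x : Fix, ∃ (k : K) (σ : K →ₐ[F] K), k ≠ 0 ∧
      (∀ c, (((x : G ⧸ R).out : G) : oG Q)⁻¹.1 (c • v) = σ c • v) ∧
      ∀ s, chi QK y w ((((x : G ⧸ R).out : G) : oG Q)⁻¹ * tr hS fr s * (((x : G ⧸ R).out : G) : oG Q)) = k * σ s := fun x => by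
    have hx : StabL K v (((x : G ⧸ R).out : G) : oG Q) := (Finset.mem_filter.1 x.2).2
    have hG := inv_mem (x : G ⧸ R).out.2
    obtain ⟨k, σ, h1, h2, h3, -⟩ := hC.data hle hG.1 (hx.inv fr.v_ne) hG.2.1
    exact ⟨k, σ, h1, h2, fun s => by simpa using h3 s⟩
  choose k σ hk hσv hσ using hdat
  have hσinj : Function.Injective fun x : Fix => (σ x).toRingHom.toMonoidHom := by
    intro x x' e
    have e' : ∀ c, σ x c = σ x' c := fun c => DFunLike.congr_fun e c
    set n := (((x : G ⧸ R).out : G))⁻¹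
    set n' := (((x' : G ⧸ R).out : G))⁻¹
    have hfix : ∀ c : K, ((n' * n⁻¹ : G) : oG Q).1 (c • v) = c • v := fun c => by
      obtain ⟨d, hd⟩ := Finite.surjective_of_injective (σ x).toRingHom.injective c
      have hd' : σ x d = c := hd
      have h1 : ((n : oG Q)).1 (d • v) = c • v := by
        rw [← hd']; exact hσv x d
      have h2 : ((n' : oG Q)).1 (d • v) = c • v := by
        rw [← hd', e']; exact hσv x' d
      show (n' : oG Q).1 (((n : oG Q))⁻¹.1 (c • v)) = c • v
      nth_rw 1 [← h1]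
      rw [oG_inv_apply, h2]
    have hm := hC.mem_rad_of_fix hle (n' * n⁻¹).2 hfix
    refine Subtype.ext ?_
    rw [← QuotientGroup.out_eq' (x : G ⧸ R), ← QuotientGroup.out_eq' (x' : G ⧸ R)]
    refine (QuotientGroup.eq.2 ?_).symm
    rw [hR]
    simpa [n, n'] using hm
  -- value of the transfer
  have hval : ∀ t : K, t ≠ 0 → Multiplicative.toAdd (Tr (T t)) = ∑ x : Fix, k x * σ x t := fun t ht => by
    haveI : Fintype (Quotient (orbitRel (Subgroup.zpowers (T t)) (G ⧸ R))) := Fintype.ofFinite _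
    rw [hTr, MonoidHom.transfer_eq_prod_quotient_orbitRel_zpowers_quot, toAdd_prod]
    set term := fun q : Quotient (orbitRel (Subgroup.zpowers (T t)) (G ⧸ R)) => Multiplicative.toAdd
      (ϕ ⟨q.out.out⁻¹ * T t ^ Function.minimalPeriod (T t • ·) q.out * q.out.out,
        QuotientGroup.out_conj_pow_minimalPeriod_mem R (T t) q.out⟩)
    have hper : ∀ x : G ⧸ R, T t • x ≠ x → Function.minimalPeriod (T t • ·) x = p := fun x hx => by
      have hd : Function.minimalPeriod (T t • ·) x ∣ p := Function.IsPeriodicPt.minimalPeriod_dvd (by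
        show (T t • ·)^[p] x = x
        simp [smul_iterate, hpK])
      rcases (Nat.dvd_prime hpf.out).1 hd with h | h
      · exact absurd (Function.minimalPeriod_eq_one_iff_isFixedPt.1 h) hx
      · exact h
    have hzero : ∀ q, q.out ∉ Fix → term q = 0 := fun q hq => by
      have hne : T t • q.out ≠ q.out := fun e => hq ((hfixiff ht _).1 e)
      show Multiplicative.toAdd (ϕ ⟨_, _⟩) = 0
      have : (⟨q.out.out⁻¹ * T t ^ Function.minimalPeriod (T t • ·) q.out * q.out.out,
          QuotientGroup.out_conj_pow_minimalPeriod_mem R (T t) q.out⟩ : R) = 1 :=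
        Subtype.ext (by simp [hper _ hne, hpK])
      rw [this, map_one, toAdd_one]
    have hout : ∀ x : Fix, (Quotient.mk (orbitRel (Subgroup.zpowers (T t)) (G ⧸ R)) (x : G ⧸ R)).out = (x : G ⧸ R) :=
      fun x => by
      obtain ⟨⟨g, hg⟩, hgx⟩ := Quotient.mk_out (s := orbitRel (Subgroup.zpowers (T t)) (G ⧸ R)) (x : G ⧸ R)
      rw [← hgx]
      show g • (x : G ⧸ R) = _
      have : T t ∈ MulAction.stabilizer G (x : G ⧸ R) := (hfixiff ht _).2 x.2
      exact (Subgroup.zpowers_le.2 this) hg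
    rw [← Finset.sum_filter_of_ne (p := fun q => q.out ∈ Fix) fun q _ h => by
      by_contra hq; exact h (hzero q hq)]
    refine (Finset.sum_bij' (fun q hq => (⟨q.out, (Finset.mem_filter.1 hq).2⟩ : Fix))
      (fun x _ => Quotient.mk _ (x : G ⧸ R)) (fun _ _ => Finset.mem_univ _)
      (fun x _ => Finset.mem_filter.2 ⟨Finset.mem_univ _, by rw [hout]; exact x.2⟩)
      (fun q _ => Quotient.out_eq q) (fun x _ => Subtype.ext (hout x)) fun q hq => ?_)
    have hmem := (Finset.mem_filter.1 hq).2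
    have h1 : Function.minimalPeriod (T t • ·) q.out = 1 :=
      Function.minimalPeriod_eq_one_iff_isFixedPt.2 ((hfixiff ht _).2 hmem)
    rw [← hσ]
    show chi QK y w _ = _
    simp [h1, T]
  -- the transfer is not trivial
  obtain ⟨t, ht⟩ : ∃ t : K, Tr (T t) ≠ 1 := by
    by_contra hcon
    push Not at hcon
    have hzero : ∑ x : Fix, k x • (((σ x).toRingHom.toMonoidHom : K →* K) : K → K) = 0 := funext fun t => by
      rw [Finset.sum_apply, Pi.zero_apply]
      rcases eq_or_ne t 0 with rfl | ht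
      · exact Finset.sum_eq_zero fun x _ => by simp
      · have := hval t ht
        rw [hcon t, toAdd_one] at this
        simpa using this.symm
    have h1 := Fintype.linearIndependent_iff.1
      (((linearIndependent_monoidHom K K).comp _ hσinj)) k hzero
    refine hk ⟨((1 : G) : G ⧸ R), ?_⟩ (h1 _)
    simp only [Fix, Finset.mem_filter, Finset.mem_univ, true_and]
    obtain ⟨⟨r, hr⟩, hrx⟩ := QuotientGroup.mk_out_eq_mul R (1 : G)
    rw [hrx, one_mul]
    exact ((hR _).1 hr).2.stab
  -- a Sylow subgroup of the kernel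
  set D := Tr.ker
  have hkill : ∀ u : Multiplicative K, u ^ ℓ = 1 → u = 1 := fun u hu => by
    have h0 := congrArg Multiplicative.toAdd hu
    rw [toAdd_pow, toAdd_one, nsmul_eq_mul, mul_eq_zero] at h0
    refine h0.elim (fun h => absurd ((CharP.cast_eq_zero_iff K p ℓ).1 h) fun hd => hlp
      ((Nat.prime_dvd_prime_iff_eq hpf.out hℓ).1 hd).symm) fun h => ?_
    exact Multiplicative.toAdd.injective (by rw [h, toAdd_one])
  have hzD : (⟨z, hz⟩ : G) ∈ D := hkill _ (by rw [← map_pow, show (⟨z, hz⟩ : G) ^ ℓ = 1 from Subtype.ext hzℓ, map_one])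
  obtain ⟨P, hP⟩ := (IsPGroup.of_card (p := ℓ) (G := Subgroup.zpowers (⟨⟨z, hz⟩, hzD⟩ : D)) (n := 1) (by
    rw [pow_one, Nat.card_zpowers]
    exact orderOf_eq_prime (Subtype.ext (Subtype.ext hzℓ)) fun e => hz1 (congrArg (fun d : D => ((d : G) : oG Q)) e))).exists_le_sylow
  obtain ⟨x, hx, hx1⟩ : ∃ x ∈ Subgroup.normalizer (P.map D.subtype), Tr x ≠ 1 := by
    by_contra hcon
    push Not at hcon
    have h1 := (Sylow.normalizer_sup_eq_top P).symm.le.trans (sup_le (fun x hx => hcon x hx) le_rfl)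
    exact ht (h1 (Subgroup.mem_top (T t)))
  -- a root element normalising a conjugate
  haveI : Fintype (Quotient (orbitRel (Subgroup.zpowers x) (G ⧸ R))) := Fintype.ofFinite _
  rw [hTr, MonoidHom.transfer_eq_prod_quotient_orbitRel_zpowers_quot] at hx1
  obtain ⟨q, -, hq⟩ := Finset.exists_ne_one_of_prod_ne_one hx1
  set g := q.out.out
  set m := Function.minimalPeriod (x • ·) q.out
  set S : G := g⁻¹ * x ^ m * g with hSdef
  have hSR : (S : oG Q) ∈ rad hS H v := (hR _).1 (QuotientGroup.out_conj_pow_minimalPeriod_mem R x q.out)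
  have hSχ : chi QK y w (S : oG Q) ≠ 0 := fun e => hq (by
    show Multiplicative.ofAdd (chi QK y w (S : oG Q)) = 1
    rw [e, ofAdd_zero])
  let P₂ : Subgroup (oG Q) := ((P.map D.subtype).map (MulAut.conj g⁻¹).toMonoidHom).map G.subtype
  have hnorm : ∀ b ∈ P₂, (S : oG Q) * b * (S : oG Q)⁻¹ ∈ P₂ ∧ (S : oG Q)⁻¹ * b * (S : oG Q) ∈ P₂ := by
    rintro _ ⟨_, ⟨b, hb, rfl⟩, rfl⟩
    have hxm := pow_mem hx m
    have h1 := (Subgroup.mem_normalizer_iff.1 hxm b).1 hb
    have h2 := (Subgroup.mem_normalizer_iff.1 (inv_mem hxm) b).1 hb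
    rw [inv_inv] at h2
    constructor
    · exact ⟨_, ⟨_, h1, rfl⟩, by simp [hSdef, mul_assoc]⟩
    · exact ⟨_, ⟨_, h2, rfl⟩, by simp [hSdef, mul_assoc]⟩
  have hPG : ∀ b ∈ P₂, b ∈ G := by rintro _ ⟨b, -, rfl⟩; exact b.2
  have hP₂ : IsPGroup ℓ P₂ := ((P.isPGroup'.map _).map _).map _
  let A : Subgroup (oG Q) :=
    { carrier := {a | a ∈ P₂ ∧ (∀ b ∈ P₂, a * b = b * a) ∧ a ^ ℓ = 1}
      one_mem' := ⟨one_mem _, fun b _ => by simp, one_pow ℓ⟩
      mul_mem' := fun {a a'} ha ha' => ⟨mul_mem ha.1 ha'.1, fun b hb => by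
          rw [mul_assoc, ha'.2.1 b hb, ← mul_assoc, ha.2.1 b hb, mul_assoc],
        by rw [(Commute.mul_pow (ha.2.1 a' ha'.1)), ha.2.2, ha'.2.2, mul_one]⟩
      inv_mem' := fun {a} ha => ⟨inv_mem ha.1,
        fun b hb => (Commute.inv_left (show Commute a b from ha.2.1 b hb)).eq,
        by rw [inv_pow, ha.2.2, inv_one]⟩ }
  have hA : A ≠ ⊥ := by
    haveI : Nontrivial P₂ := by
      refine (Subgroup.nontrivial_iff_ne_bot _).2 fun e => hz1 ?_
      have hm : G.subtype (g⁻¹ * ⟨z, hz⟩ * g⁻¹⁻¹) ∈ P₂ :=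
        ⟨_, ⟨_, ⟨⟨⟨z, hz⟩, hzD⟩, hP (Subgroup.mem_zpowers _), rfl⟩, rfl⟩, rfl⟩
      rw [e, Subgroup.mem_bot] at hm
      have := congrArg (fun u : oG Q => (g : oG Q) * u * (g : oG Q)⁻¹) hm
      simpa [mul_assoc] using this
    haveI := hP₂.center_nontrivial
    have hd : ℓ ∣ Nat.card (Subgroup.center P₂) := by
      obtain ⟨n, hn⟩ := (hP₂.to_subgroup (Subgroup.center P₂)).exists_card_eq
      rcases n with _ | n
      · rw [pow_zero] at hn
        exact absurd hn (Finite.one_lt_card).ne'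
      · exact hn ▸ dvd_pow_self ℓ (Nat.succ_ne_zero n)
    obtain ⟨c, hc⟩ := exists_prime_orderOf_dvd_card' ℓ hd
    intro e
    have hmem : ((c : P₂) : oG Q) ∈ A := ⟨(c : P₂).2, fun b hb => by
      have := congrArg (fun u : P₂ => (u : oG Q)) ((Subgroup.mem_center_iff.1 c.2 ⟨b, hb⟩))
      simpa using this.symm, by
      rw [← Subgroup.coe_pow, ← Subgroup.coe_pow, ← hc, pow_orderOf_eq_one]; rfl⟩
    rw [e, Subgroup.mem_bot] at hmem
    have : c = 1 := Subtype.ext (Subtype.ext hmem)
    rw [this, orderOf_one] at hc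
    exact hℓ.ne_one hc.symm
  have hv : v ≠ 0 := fr.v_ne
  refine Rigid.false_of_fpf (p := p) (ℓ := ℓ) hlp.symm (fun e => hS.two (by subst e; exact CharP.ofNat_eq_zero F 2))
    (A.map (oG Q).subtype) ?_ ?_ ?_ ((S : oG Q) : V ≃ₗ[F] V) ?_ ?_ ?_ ?_ hv ?_ ?_
  · rintro _ ⟨a, ha, rfl⟩ _ ⟨b, hb, rfl⟩
    rw [← map_mul, ← map_mul, ha.2.1 b hb.1]
  · rintro _ ⟨a, ha, rfl⟩
    rw [← map_pow, ha.2.2, map_one]
  · exact fun e => hA ((Subgroup.map_eq_bot_iff_of_injective _ (oG Q).subtype_injective).1 e)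
  · rintro _ ⟨a, ha, rfl⟩
    refine ⟨(S : oG Q) * a * (S : oG Q)⁻¹, ⟨(hnorm a ha.1).1, fun b hb => ?_, ?_⟩, by simp⟩
    · have h1 := ha.2.1 _ (hnorm b hb).2
      have h2 := congrArg (fun u : oG Q => (S : oG Q) * u * (S : oG Q)⁻¹) h1
      simpa [mul_assoc] using h2
    · rw [conj_pow, ha.2.2, mul_one, mul_inv_cancel]
  · exact congrArg Subtype.val (hSR.2.pow_char hS p)
  · intro u
    obtain ⟨c, h1, -⟩ := hSR.2.cube hS u 0
    obtain ⟨δ, hδ⟩ : ∃ δ, (S : oG Q).1 u = u + δ := ⟨(S : oG Q).1 u - u, by abel⟩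
    rw [hδ, add_sub_cancel_left] at h1
    show (S : oG Q).1 ((S : oG Q).1 ((S : oG Q).1 u)) + (3 : F) • (S : oG Q).1 u =
      (3 : F) • (S : oG Q).1 ((S : oG Q).1 u) + u
    rw [hδ, map_add, hδ, h1, map_add, map_add, map_add, hδ, h1, hSR.2.fix, show (3 : F) = 1 + 1 + 1 by norm_num]
    simp only [add_smul, one_smul]
    abel
  · rintro _ ⟨a, ha, rfl⟩ hcm
    have h1 : (S : oG Q) * a = a * (S : oG Q) := Subtype.ext hcm
    rw [hC.eq_one hle hlp hℓr (hPG a ha.1) ha.2.2 hSR hSχ h1, map_one]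
  · rintro _ ⟨a, ha, rfl⟩
    exact (hPG a ha.1).2.1
  · intro _
    exact ⟨h3, by rw [hS.finrankV]; omega⟩

end Contra

end Cfsg.Agent.ClassicalMax.ExtOrth3
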