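import Cfsg.Agent.ClassicalMax.ExtOrth3.Radical

/-!
Elements of an overgroup fixing the orthogonal of a cone line pointwise: they form, for every cone line, a non-trivial
space of skew maps of `K` whose values at a point separate everything outside the scalars.
-/

set_option autoImplicit false
set_option linter.unusedSectionVars false
set_option linter.style.haveILetI false

namespace Cfsg.Agent.ClassicalMax.ExtOrth3

open Module QuadraticMap Cfsg.Agent.Classical Cfsg.Agent.Classical.Quad

variable {F K V : Type*} [Field F] [Field K] [Algebra F K] [AddCommGroup V] [Module F V] [Module K V]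
  [IsScalarTower F K V] [Finite K] [Finite F] {Q : QuadraticForm F V} {QK : QuadraticForm K V} {l : K →ₗ[F] F}
  {H : Subgroup (oG Q)} {v y w : V}

/-- the element moves along `v` by the map `ν` of the coordinate pairing to `v` -/
def IsRoot (QK : QuadraticForm K V) (H : Subgroup (oG Q)) (v : V) (ν : K →ₗ[F] K) (o : oG Q) : Prop :=
  o ∈ H ∧ ∀ x, o.1 x = x + ν (polar QK v x) • v

/-- the maps all whose multiples belong to elements of `H` -/
def lin (hv : QK v = 0) (H : Subgroup (oG Q)) : Submodule F (K →ₗ[F] K) where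
  carrier := {ν | ∀ f : F, ∃ o, IsRoot QK H v (f • ν) o}
  zero_mem' := fun f => ⟨1, one_mem H, fun x => by simp [oG_one_apply]⟩
  add_mem' := fun {ν ν'} h h' f => by
    obtain ⟨o, ho, e⟩ := h f
    obtain ⟨o', ho', e'⟩ := h' f
    refine ⟨o * o', mul_mem ho ho', fun x => ?_⟩
    rw [oG_mul_apply, e', e, polar_add_right, polar_smul_right, polar_self', hv,
      mul_zero, smul_zero, add_zero, smul_add, LinearMap.add_apply, add_smul]
    abel
  smul_mem' := fun c ν h f => by
    obtain ⟨o, ho⟩ := h (f * c)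
    exact ⟨o, by rwa [smul_smul]⟩

theorem mem_lin {hv : QK v = 0} {ν : K →ₗ[F] K} :
    ν ∈ lin hv H ↔ ∀ f : F, ∃ o, IsRoot QK H v (f • ν) o := Iff.rfl

theorem exists_root {hv : QK v = 0} {ν : K →ₗ[F] K} (h : ν ∈ lin hv H) : ∃ o, IsRoot QK H v ν o := by
  obtain ⟨o, ho⟩ := h 1
  exact ⟨o, by rwa [one_smul] at ho⟩

theorem IsRoot.skew (hS : Setting Q QK l) (fr : Frame QK v y w) {ν : K →ₗ[F] K} {o : oG Q} (h : IsRoot QK H v ν o)
    (a b : K) : l (a * ν b) + l (b * ν a) = 0 := by
  have h1 : polar Q (o.1 (a • y)) (o.1 (b • y)) = polar Q (a • y) (b • y) := polar_oG o _ _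
  have hb : ∀ c : K, polar QK v (c • y) = c := fun c => by rw [polar_smul_right, fr.hvy, smul_eq_mul, mul_one]
  rw [h.2, h.2, hb, hb, hS.polar_eq, hS.polar_eq] at h1
  simp only [polar_add_left, polar_add_right, polar_smul_left, polar_smul_right, polar_self', fr.hv, fr.hy, fr.hvy,
    polar_comm QK y v, smul_eq_mul, mul_zero, add_zero, zero_add, mul_one, map_add, map_zero] at h1
  rw [mul_comm (ν b) a] at h1
  linear_combination h1

theorem lin_skew (hS : Setting Q QK l) (fr : Frame QK v y w) {ν : K →ₗ[F] K} (h : ν ∈ lin fr.hv H) (a b : K) :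
    l (a * ν b) + l (b * ν a) = 0 := (exists_root h).choose_spec.skew hS fr a b

theorem lin_map (hS : Setting Q QK l) (hle : Le hS H) {hv : QK v = 0} {ν : K →ₗ[F] K} (h : ν ∈ lin hv H) {k : oG QK}
    (hk : k ∈ commutator (oG QK)) : ν ∈ lin (v := k.1 v) (show QK (k.1 v) = 0 by rw [k.2, hv]) H := fun f => by
  obtain ⟨o, ho, e⟩ := h f
  refine ⟨res hS k * o * (res hS k)⁻¹, mul_mem (mul_mem (hle k hk) ho) (inv_mem (hle k hk)), fun x => ?_⟩
  rw [oG_mul_apply, oG_mul_apply, e, map_add, oG_apply_inv, res_inv_apply, res_apply, map_smul, ← polar_oG k v,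
    oG_apply_inv]

theorem lin_smul {hv : QK v = 0} {ν : K →ₗ[F] K} (h : ν ∈ lin hv H) {s : K} (hs : s ≠ 0) :
    (LinearMap.mulLeft F s⁻¹).comp (ν.comp (LinearMap.mulLeft F s⁻¹)) ∈
      lin (v := s • v) (show QK (s • v) = 0 by rw [map_smul', hv, mul_zero]) H := fun f => by
  obtain ⟨o, ho, e⟩ := h f
  refine ⟨o, ho, fun x => ?_⟩
  simp only [LinearMap.smul_apply, LinearMap.comp_apply, LinearMap.mulLeft_apply, polar_smul_left, smul_eq_mul]
  rw [e, LinearMap.smul_apply, inv_mul_cancel_left₀ hs, smul_smul, smul_mul_assoc, mul_comm _ s,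
    mul_inv_cancel_left₀ hs]

theorem lin_torus (hS : Setting Q QK l) (hle : Le hS H) (fr : Frame QK v y w) {ν : K →ₗ[F] K} (h : ν ∈ lin fr.hv H)
    {c : K} (hc : c ≠ 0) : (LinearMap.mulLeft F (c * c)).comp (ν.comp (LinearMap.mulLeft F (c * c))) ∈ lin fr.hv H := by
  obtain ⟨k, hk, hkv, -, -⟩ := hS.torus fr hc
  have hs : c * c ≠ 0 := mul_ne_zero hc hc
  have h1 := lin_smul (lin_map hS hle h hk) (inv_ne_zero hs)
  simp only [hkv, smul_smul, inv_mul_cancel₀ hs, one_smul, inv_inv] at h1
  exact h1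

/-- non-commutation with the root group gives a non-zero space -/
theorem lin_ne_bot_of_not_comm (hS : Setting Q QK l) (hle : Le hS H) (fr : Frame QK v y w) (hC : ¬ Comm hS H fr) :
    lin fr.hv H ≠ ⊥ := by
  simp only [Comm, not_forall] at hC
  obtain ⟨S, hSr, t₀, hne⟩ := hC
  have hh := hSr.2
  let δ : K → V := fun b => S.1 (b • y) - b • y
  have hδ : ∀ b, polar QK v (δ b) = 0 := fun b => hS.sub_of_fix hh.fix _
  let N : V → K := fun z => polar QK y (S.1 z - z)
  have hN : ∀ z, polar QK v z = 0 → S.1 z = z + N z • v := fun z hz => by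
    obtain ⟨c, hc⟩ := hh.perp z hz
    simp only [N, hc, add_sub_cancel_left, polar_smul_right, polar_comm QK y v, fr.hvy, smul_eq_mul, mul_one]
  let comm : K → oG Q := fun t => tr hS fr t * S * (tr hS fr t)⁻¹ * S⁻¹
  have hcH : ∀ t, comm t ∈ H := fun t =>
    mul_mem (mul_mem (mul_mem (tr_mem hS fr hle t) hSr.1) (inv_mem (tr_mem hS fr hle t))) (inv_mem hSr.1)
  have hcST : ∀ t x, (comm t).1 (S.1 ((tr hS fr t).1 x)) = (tr hS fr t).1 (S.1 x) := fun t x => by
    simp only [comm, oG_mul_apply, oG_inv_apply]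
  have hperp : ∀ t x, polar QK v x = 0 → (comm t).1 x = x := fun t x hx => by
    obtain ⟨z, rfl⟩ : ∃ z, (tr hS fr t * S).1 z = x := (tr hS fr t * S).1.surjective x
    have hz : polar QK v z = 0 := by
      have h1 : ∀ c : K, ((tr hS fr t * S)⁻¹).1 (c • v) = c • v :=
        (inv_mem (mul_mem (tr_mem_rad hS fr hle t) hSr)).2.fix
      have := hS.perp_of_fix h1 hx
      rwa [oG_inv_apply] at this
    have e : S.1 ((tr hS fr t).1 z) = (tr hS fr t * S).1 z := by
      rw [oG_mul_apply, tr_perp hS fr t hz, map_add, hh.fix, hN z hz, map_add, tr_fix, tr_perp hS fr t hz]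
      abel
    conv_lhs => rw [← e]
    rw [hcST, oG_mul_apply]
  have hlin : ∀ t b, (comm t).1 (b • y) = b • y + (t * polar QK (δ b) w + N ((t * b) • w)) • v := fun t b => by
    have h1 := hcST t (b • y)
    set u := S.1 ((tr hS fr t).1 (b • y)) with hu
    have hub : polar QK v (u - b • y) = 0 := by
      have : ∀ c : K, ((S * tr hS fr t) : oG Q).1 (c • v) = c • v := (mul_mem hSr (tr_mem_rad hS fr hle t)).2.fix
      exact hS.sub_of_fix this (b • y)
    have h2 : (comm t).1 u = (comm t).1 (b • y) + (u - b • y) := by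
      conv_lhs => rw [show u = b • y + (u - b • y) by abel, map_add, hperp t _ hub]
    rw [h2] at h1
    have hTS : (tr hS fr t).1 (S.1 (b • y)) = (tr hS fr t).1 (b • y) + (δ b + (t * polar QK (δ b) w) • v) := by
      rw [← tr_perp hS fr t (hδ b), ← map_add, add_sub_cancel]
    have hu' : u = (tr hS fr t).1 (b • y) + δ b - N ((t * b) • w) • v := by
      rw [hu, tr_y, map_sub, map_add, hh.fix, hN _ (polar_perp_smul fr.hvw _)]
      simp only [δ]
      abel
    rw [hTS, hu'] at h1
    linear_combination (norm := module) h1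
  let ν : K →ₗ[F] K :=
    { toFun := fun b => polar QK y ((comm t₀).1 (b • y) - b • y)
      map_add' := fun a b => by rw [← polar_add_right, add_smul, map_add]; congr 1; abel
      map_smul' := fun f b => by
        rw [RingHom.id_apply, smul_assoc, map_smul, ← smul_sub, ← algebraMap_smul K f, polar_smul_right, smul_eq_mul,
          Algebra.smul_def] }
  have hroot : ∀ f : F, IsRoot QK H v (f • ν) (comm (f • t₀)) := fun f => by
    refine ⟨hcH _, fun x => ?_⟩
    set b := polar QK v x
    have hx : polar QK v (x - b • y) = 0 := by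
      rw [polar_sub_right, polar_smul_right, fr.hvy, smul_eq_mul, mul_one, sub_self]
    have hsm : N (((f • t₀) * b) • w) = f • N ((t₀ * b) • w) := by
      simp only [N]
      rw [smul_mul_assoc, smul_assoc, map_smul, ← smul_sub, ← algebraMap_smul K f, polar_smul_right, smul_eq_mul,
        Algebra.smul_def]
    have hν : (f • ν) b = f • t₀ * polar QK (δ b) w + N (((f • t₀) * b) • w) := by
      rw [hsm, LinearMap.smul_apply, smul_mul_assoc, ← smul_add]
      congr 1
      show polar QK y ((comm t₀).1 (b • y) - b • y) = _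
      rw [hlin, add_sub_cancel_left, polar_smul_right, polar_comm QK y v, fr.hvy, smul_eq_mul, mul_one]
    conv_lhs => rw [show x = b • y + (x - b • y) by abel, map_add, hlin, hperp _ _ hx]
    rw [hν]
    abel
  refine (Submodule.ne_bot_iff _).2 ⟨ν, fun f => ⟨_, hroot f⟩, fun e => hne ?_⟩
  have h1 : comm t₀ = 1 := ext_oG fun x => by
    have := (hroot 1).2 x
    rwa [one_smul, one_smul, e, LinearMap.zero_apply, zero_smul, add_zero] at this
  have := mul_inv_eq_one.1 h1
  exact mul_inv_eq_iff_eq_mul.1 this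

/-- an element that is not semilinear maps some cone vector off the cone -/
theorem Setting.exists_off (hS : Setting Q QK l) {g : oG Q} (hnl : ∃ (k : K) (x : V), g.1 (k • x) ∉ K ∙ g.1 x) :
    ∃ u, u ≠ 0 ∧ QK u = 0 ∧ QK (g.1 u) ≠ 0 := by
  by_contra hcon
  push Not at hcon
  obtain ⟨k, x, hk⟩ := hnl
  refine hk (hS.semilinear g.1 (fun u hu c => ?_) x k)
  rcases eq_or_ne u 0 with rfl | hu0
  · simp
  have hc0 : ∀ d : K, QK (g.1 (d • u)) = 0 := fun d => by
    rcases eq_or_ne d 0 with rfl | hd
    · rw [zero_smul, map_zero, map_zero]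
    · exact hcon _ (smul_ne_zero hd hu0) (by rw [map_smul', hu, mul_zero])
  have hp : polar QK (g.1 u) (g.1 (c • u)) = 0 := by
    have h1 := hc0 (1 + c)
    have h2 := hc0 1
    rw [one_smul] at h2
    rwa [add_smul, one_smul, map_add, map_add', h2, hc0 c, zero_add, zero_add] at h1
  obtain ⟨y', w', fr⟩ := hS.exists_frame (v := g.1 u) (fun e => hu0 (g.1.injective (by rw [e, map_zero]))) (by simpa using hc0 1)
  exact Submodule.mem_span_singleton.2 ⟨_, (fr.cone_perp hS (hc0 c) hp).symm⟩

/-- every cone line has non-trivial roots in an overgroup with a non-semilinear element -/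
theorem lin_ne_bot [FiniteDimensional F V] [Fact (5 ≤ finrank F K)] (hS : Setting Q QK l) (hle : Le hS H) {g : oG Q} (hg : g ∈ H)
    (hnl : ∃ (k : K) (x : V), g.1 (k • x) ∉ K ∙ g.1 x) {v : V} (hv0 : v ≠ 0) (hv : QK v = 0) : lin hv H ≠ ⊥ := by
  haveI := Fintype.ofFinite F
  obtain ⟨u, hu0, hu, hgu⟩ := hS.exists_off hnl
  obtain ⟨y', w', fr⟩ := hS.exists_frame hu0 hu
  obtain ⟨ℓ, z, hℓ, -, hℓr, hℓq, h3, he, hzc, hzℓ, hz1, hza⟩ := exists_rot hS hgu
  have hC : ¬ Comm hS H fr := fun hC => by
    refine hC.false_of_elem hle hℓ hℓr hℓq h3 he (z := g⁻¹ * res hS z * g) ?_ ?_ ?_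
    · refine ⟨mul_mem (mul_mem (inv_mem hg) (hle z hzc)) hg, ?_, ?_⟩
      · rw [oG_mul_apply, oG_mul_apply, res_apply, hza, oG_inv_apply]
      · rw [map_mul, map_mul, map_inv, detG_res hS hzc, mul_one, inv_mul_cancel]
    · rw [show g⁻¹ * res hS z * g = g⁻¹ * res hS z * g⁻¹⁻¹ by rw [inv_inv], conj_pow, ← map_pow, hzℓ, map_one,
        mul_one, mul_inv_cancel]
    · intro e
      refine hz1 (ext_oG fun x => ?_)
      have h1 : res hS z = 1 := by
        have := congrArg (fun k => g * k * g⁻¹) e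
        simpa [mul_assoc] using this
      have := congrArg (fun k : oG Q => k.1 x) h1
      simpa [res_apply] using this
  obtain ⟨ν, hν, hν0⟩ := Submodule.exists_mem_ne_zero_of_ne_bot (lin_ne_bot_of_not_comm hS hle fr hC)
  obtain ⟨k, hk, t, ht, hkv⟩ := hS.trans hu0 hu hv0 hv
  have h1 := lin_smul (lin_map hS hle hν hk) (inv_ne_zero ht)
  simp only [hkv, smul_smul, inv_mul_cancel₀ ht, one_smul, inv_inv] at h1
  refine (Submodule.ne_bot_iff _).2 ⟨_, h1, fun e => hν0 (LinearMap.ext fun x => ?_)⟩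
  have := LinearMap.congr_fun e (t⁻¹ * x)
  simp only [LinearMap.comp_apply, LinearMap.mulLeft_apply, LinearMap.zero_apply, mul_inv_cancel_left₀ ht,
    mul_eq_zero, or_iff_right ht] at this
  rw [LinearMap.zero_apply]
  exact this

/-- the maps commuting with a non-zero skew map are scalars -/
theorem mem_scalar_of_comm (hS : Setting Q QK l) {ν : K →ₗ[F] K} (hsk : ∀ a b, l (a * ν b) + l (b * ν a) = 0)
    (hν : ν ≠ 0) {τ : K} (hτ : ∀ x, ν (τ * x) = τ * ν x) : ∃ f : F, algebraMap F K f = τ := by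
  haveI := Subalgebra.isSimpleOrder_of_finrank_prime F K hS.prime
  let A : Subalgebra F K :=
    { carrier := {τ | ∀ x, ν (τ * x) = τ * ν x}
      mul_mem' := fun {a b} ha hb x => by rw [mul_assoc, ha, hb, mul_assoc]
      add_mem' := fun {a b} ha hb x => by rw [add_mul, map_add, ha, hb, add_mul]
      algebraMap_mem' := fun f x => by rw [← Algebra.smul_def, map_smul, Algebra.smul_def] }
  rcases eq_bot_or_eq_top A with e | e
  · exact Algebra.mem_bot.1 (e ▸ hτ : τ ∈ (⊥ : Subalgebra F K))
  · refine absurd (LinearMap.ext fun x => ?_) hν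
    have h1 : ∀ x, ν x = x * ν 1 := fun x => by
      have := (e.symm ▸ Algebra.mem_top : x ∈ A) 1
      rwa [mul_one] at this
    have h2 : ν 1 = 0 := hS.sep0 fun c => by
      have := hsk c 1
      rw [one_mul, h1 c, ← two_mul] at this
      exact (mul_eq_zero.1 this).resolve_left hS.two
    rw [h1, h2, mul_zero, LinearMap.zero_apply]

/-- values at a point separate everything but the scalars -/
theorem lin_sep (hS : Setting Q QK l) (hle : Le hS H) (fr : Frame QK v y w) (hne : lin fr.hv H ≠ ⊥) {a b : K}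
    (ha : a ≠ 0) (h : ∀ ν ∈ lin fr.hv H, l (b * ν a) = 0) : ∃ f : F, f • a = b := by
  obtain ⟨ν, hν, hν0⟩ := Submodule.exists_mem_ne_zero_of_ne_bot hne
  obtain ⟨f₀, hf₀, hsq⟩ := hS.sq_or
  set τ := b / a with hτd
  have key : ∀ x : K, l (τ * x * ν x) = 0 := fun x => by
    rcases eq_or_ne x 0 with rfl | hx
    · simp
    obtain ⟨c, hc, e⟩ := hsq (x / a) (div_ne_zero hx ha)
    have h1 := h _ (lin_torus hS hle fr hν hc)
    simp only [LinearMap.comp_apply, LinearMap.mulLeft_apply] at h1
    rcases e with e | e <;> rw [div_eq_iff ha] at e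
    · rw [e, hτd, show b / a * (c * c * a) * ν (c * c * a) = b * (c * c * ν (c * c * a)) by field_simp]
      exact h1
    · rw [e, show algebraMap F K f₀ * (c * c) * a = f₀ • (c * c * a) by rw [Algebra.smul_def, mul_assoc], map_smul,
        show τ * (f₀ • (c * c * a)) * (f₀ • ν (c * c * a)) = (f₀ * f₀) • (τ * (c * c * a) * ν (c * c * a)) by
          rw [mul_smul_comm, mul_smul_comm, smul_mul_assoc, smul_smul], map_smul, hτd,
        show b / a * (c * c * a) * ν (c * c * a) = b * (c * c * ν (c * c * a)) by field_simp, h1, smul_zero]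
  have hcomm : ∀ x, ν (τ * x) = τ * ν x := fun x => hS.sep fun c => by
    have h1 := key (c + x)
    rw [map_add, show τ * (c + x) * (ν c + ν x) = τ * c * ν c + τ * x * ν x + τ * c * ν x + τ * x * ν c by ring,
      map_add, map_add, map_add, key, key, zero_add, zero_add] at h1
    have h2 := lin_skew hS fr hν (τ * x) c
    rw [show c * (τ * ν x) = τ * c * ν x by ring]
    linear_combination h2 - h1
  obtain ⟨f, hf⟩ := mem_scalar_of_comm hS (lin_skew hS fr hν) hν0 hcomm
  exact ⟨f, by rw [Algebra.smul_def, hf, hτd, div_mul_cancel₀ _ ha]⟩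

/-- every functional killing `a` is given by a value at `a` -/
theorem lin_surj (hS : Setting Q QK l) (hle : Le hS H) (fr : Frame QK v y w) (hne : lin fr.hv H ≠ ⊥) {a : K}
    (ha : a ≠ 0) (φ : K →ₗ[F] F) (hφ : φ a = 0) : ∃ ν ∈ lin fr.hv H, ∀ b, l (b * ν a) = φ b := by
  haveI := hS.fin
  let Φ : lin fr.hv H →ₗ[F] Dual F K :=
    { toFun := fun ν => l.comp (LinearMap.mulRight F (ν.1 a))
      map_add' := fun ν ν' => LinearMap.ext fun b => by
        simp [LinearMap.mulRight_apply, mul_add, map_add]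
      map_smul' := fun f ν => LinearMap.ext fun b => by
        simp [LinearMap.mulRight_apply, mul_smul_comm, map_smul] }
  have hco : (LinearMap.range Φ).dualCoannihilator ≤ F ∙ a := fun b hb => by
    rw [Submodule.mem_dualCoannihilator] at hb
    obtain ⟨f, rfl⟩ := lin_sep hS hle fr hne ha fun ν hν => hb _ ⟨⟨ν, hν⟩, rfl⟩
    exact Submodule.smul_mem _ _ (Submodule.mem_span_singleton_self a)
  have h1 : φ ∈ (F ∙ a).dualAnnihilator := (Submodule.mem_dualAnnihilator _).2 fun x hx => by
    obtain ⟨f, rfl⟩ := Submodule.mem_span_singleton.1 hx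
    rw [map_smul, hφ, smul_zero]
  have h2 := Submodule.dualAnnihilator_anti hco h1
  rw [Subspace.dualCoannihilator_dualAnnihilator_eq] at h2
  obtain ⟨⟨ν, hν⟩, e⟩ := h2
  exact ⟨ν, hν, fun b => LinearMap.congr_fun e b⟩

/-- a skew map in odd dimension has a kernel -/
theorem exists_ker (hS : Setting Q QK l) {ν : K →ₗ[F] K} (hsk : ∀ a b, l (a * ν b) + l (b * ν a) = 0) :
    ∃ k : K, k ≠ 0 ∧ ν k = 0 := by
  classical
  haveI := hS.fin
  let e := Module.finBasis F K
  let M : Matrix (Fin (finrank F K)) (Fin (finrank F K)) F := Matrix.of fun i j => l (e i * ν (e j))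
  have hT : M.transpose = -M := Matrix.ext fun i j => by
    simp only [M, Matrix.transpose_apply, Matrix.of_apply, Matrix.neg_apply]
    linear_combination hsk (e j) (e i)
  have hdet : M.det = 0 := by
    have h1 := congrArg Matrix.det hT
    rw [Matrix.det_transpose, Matrix.det_neg, Fintype.card_fin,
      (hS.prime.odd_of_ne_two hS.ne_two).neg_one_pow, neg_one_mul] at h1
    exact (mul_eq_zero.1 (show (2 : F) * M.det = 0 by linear_combination h1)).resolve_left hS.two
  obtain ⟨c, hc0, hc⟩ := Matrix.exists_mulVec_eq_zero_iff.2 hdet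
  refine ⟨∑ j, c j • e j, fun h => hc0 (funext fun i => ?_), hS.sep0 fun z => ?_⟩
  · exact Fintype.linearIndependent_iff.1 e.linearIndependent c h i
  · rw [← e.sum_repr z, Finset.sum_mul, map_sum]
    refine Finset.sum_eq_zero fun i _ => ?_
    rw [smul_mul_assoc, map_smul, map_sum, Finset.mul_sum, map_sum]
    have := congrFun hc i
    simp only [Matrix.mulVec, dotProduct, M, Matrix.of_apply, Pi.zero_apply] at this
    rw [← this.symm.trans (Finset.sum_congr rfl fun j _ => ?_), smul_zero]
    rw [map_smul, mul_smul_comm, map_smul, smul_eq_mul, mul_comm]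

/-- if every root killing `a` kills `b` then `b` is a scalar multiple of `a` -/
theorem lin_kill (hS : Setting Q QK l) (hle : Le hS H) (fr : Frame QK v y w) (hne : lin fr.hv H ≠ ⊥) {a b : K}
    (ha : a ≠ 0) (h : ∀ ν ∈ lin fr.hv H, ν a = 0 → ν b = 0) : ∃ f : F, f • a = b := by
  obtain ⟨ν, hν, hν0⟩ := Submodule.exists_mem_ne_zero_of_ne_bot hne
  obtain ⟨f₀, hf₀, hsq⟩ := hS.sq_or
  have hf₀K : algebraMap F K f₀ ≠ 0 := fun e => hf₀ ((algebraMap F K).injective (by rw [e, map_zero]))
  set τ := b / a with hτd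
  have key : ∀ k : K, ν k = 0 → ν (τ * k) = 0 := fun k hk => by
    rcases eq_or_ne k 0 with rfl | hk0
    · rw [mul_zero, map_zero]
    obtain ⟨c, hc, e⟩ := hsq (k / a) (div_ne_zero hk0 ha)
    simp only [div_eq_iff ha] at e
    have hz : ν (c * c * a) = 0 := by
      rcases e with e | e
      · rwa [← e]
      · rw [e, mul_assoc, ← Algebra.smul_def, map_smul, smul_eq_zero] at hk
        exact hk.resolve_left hf₀
    have h1 := h _ (lin_torus hS hle fr hν hc) (by simp [← mul_assoc, hz])
    simp only [LinearMap.comp_apply, LinearMap.mulLeft_apply, mul_eq_zero, or_self, hc, false_or] at h1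
    rcases e with e | e
    · rwa [e, hτd, show b / a * (c * c * a) = c * c * b by field_simp]
    · rw [e, hτd, show b / a * (algebraMap F K f₀ * (c * c) * a) = algebraMap F K f₀ * (c * c * b) by field_simp,
        ← Algebra.smul_def, map_smul, h1, smul_zero]
  haveI := Subalgebra.isSimpleOrder_of_finrank_prime F K hS.prime
  let A : Subalgebra F K :=
    { carrier := {τ | ∀ k, ν k = 0 → ν (τ * k) = 0}
      mul_mem' := fun {s t} hs ht k hk => by rw [mul_assoc]; exact hs _ (ht k hk)
      add_mem' := fun {s t} hs ht k hk => by rw [add_mul, map_add, hs k hk, ht k hk, add_zero]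
      algebraMap_mem' := fun f k hk => by rw [← Algebra.smul_def, map_smul, hk, smul_zero] }
  rcases eq_bot_or_eq_top A with e | e
  · obtain ⟨f, hf⟩ := Algebra.mem_bot.1 (e ▸ key : τ ∈ (⊥ : Subalgebra F K))
    exact ⟨f, by rw [Algebra.smul_def, hf, hτd, div_mul_cancel₀ _ ha]⟩
  · exfalso
    obtain ⟨k, hk0, hk⟩ := exists_ker hS (lin_skew hS fr hν)
    refine hν0 (LinearMap.ext fun x => ?_)
    have := (e.symm ▸ Algebra.mem_top : x / k ∈ A) k hk
    rwa [div_mul_cancel₀ _ hk0] at this

end Cfsg.Agent.ClassicalMax.ExtOrth3
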