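import Cfsg.Agent.ClassicalMax.ExtOrth3.Basic

/-!
The stabiliser of an anisotropic vector in a ternary orthogonal group contains a rotation of prime order `ℓ` such that
the order of the size of the ground field modulo `ℓ` is prime to `3` and at least the degree of the extension.
-/

set_option autoImplicit false
set_option linter.unusedSectionVars false
set_option linter.style.haveILetI false

namespace Cfsg.Agent.ClassicalMax.ExtOrth3

open Module QuadraticMap Cfsg.Agent.Classical Cfsg.Agent.Classical.Quad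

section Num

theorem le_three_pow (k : ℕ) : k + 5 ≤ 3 ^ (k + 3) := by
  induction k with
  | zero => norm_num
  | succ k ih => rw [show k + 1 + 3 = k + 3 + 1 by omega, pow_succ]; omega

/-- a prime dividing `xʳ - 1`, but neither `x - 1` nor `r` -/
theorem exists_prime_dvd {r : ℕ} (hr : r.Prime) (hr5 : 5 ≤ r) {x : ℤ} (hx : 3 ≤ |x|) :
    ∃ ℓ : ℕ, ℓ.Prime ∧ ℓ ≠ r ∧ (ℓ : ℤ) ∣ x ^ r - 1 ∧ ¬ (ℓ : ℤ) ∣ x - 1 := by
  haveI := Fact.mk hr
  set Φ := ∑ i ∈ Finset.range r, x ^ i with hΦ
  have hmul : Φ * (x - 1) = x ^ r - 1 := geom_sum_mul x r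
  have hbig : r < Φ.natAbs := by
    by_contra hle
    push Not at hle
    have h1 : |x ^ r - 1| = |Φ| * |x - 1| := by rw [← hmul, abs_mul]
    have h2 : |x| ^ r - 1 ≤ |x ^ r - 1| := by
      have := abs_sub_abs_le_abs_sub (x ^ r) 1
      rwa [abs_pow, abs_one] at this
    have h3 : |x - 1| ≤ |x| + 1 := by simpa using abs_sub x 1
    have h4 : |Φ| ≤ r := by rw [Int.abs_eq_natAbs]; exact_mod_cast hle
    have h5 : |Φ| * |x - 1| ≤ (r : ℤ) * (|x| + 1) :=
      mul_le_mul h4 h3 (abs_nonneg _) (by positivity)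
    obtain ⟨k, rfl⟩ : ∃ k, r = k + 5 := ⟨r - 5, by omega⟩
    have h6 : (3 : ℤ) ^ (k + 3) ≤ |x| ^ (k + 3) := pow_le_pow_left₀ (by norm_num) hx _
    have h7 : ((k + 5 : ℕ) : ℤ) ≤ (3 : ℤ) ^ (k + 3) := by exact_mod_cast le_three_pow k
    have h8 : |x| ^ (k + 5) = |x| ^ 2 * |x| ^ (k + 3) := by ring
    have h9 : |x| ^ 2 * ((k + 5 : ℕ) : ℤ) ≤ |x| ^ 2 * |x| ^ (k + 3) :=
      mul_le_mul_of_nonneg_left (h7.trans h6) (by positivity)
    rw [h8] at h2
    have h10 : ((k + 5 : ℕ) : ℤ) * 5 ≤ ((k + 5 : ℕ) : ℤ) * (|x| ^ 2 - |x| - 1) :=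
      mul_le_mul_of_nonneg_left (by nlinarith) (by positivity)
    have hR : (5 : ℤ) ≤ ((k + 5 : ℕ) : ℤ) := by exact_mod_cast hr5
    nlinarith [h1, h2, h5, h9, h10, hR]
  obtain ⟨ℓ, hℓ, hℓr, hℓΦ⟩ : ∃ ℓ : ℕ, ℓ.Prime ∧ ℓ ≠ r ∧ ℓ ∣ Φ.natAbs := by
    by_contra hcon
    push Not at hcon
    have h2 : r ∣ Φ.natAbs := by
      obtain ⟨ℓ, hℓ, hd⟩ := Nat.exists_prime_and_dvd (show Φ.natAbs ≠ 1 by omega)
      by_cases e : ℓ = r
      · exact e ▸ hd
      · exact absurd hd (hcon ℓ hℓ e)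
    have hrd : (r : ℤ) ∣ Φ := Int.natCast_dvd.2 h2
    have hx1 : (r : ℤ) ∣ x - 1 := by
      have h3 : ((x ^ r - 1 : ℤ) : ZMod r) = 0 :=
        (ZMod.intCast_zmod_eq_zero_iff_dvd _ r).2 (hmul ▸ hrd.mul_right _)
      push_cast at h3
      rw [ZMod.pow_card] at h3
      exact (ZMod.intCast_zmod_eq_zero_iff_dvd _ r).1 (by push_cast; exact h3)
    obtain ⟨b, hb⟩ := hx1
    have h4 := odd_sq_dvd_geom_sum₂_sub (R := ℤ) (p := r) 1 b (hr.odd_of_ne_two (by omega))
    simp only [one_pow, mul_one, show (1 : ℤ) + r * b = x by linarith, ← hΦ] at h4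
    have h6 : ¬ r ^ 2 ∣ Φ.natAbs := fun h => by
      have h7 : (r : ℤ) ^ 2 ∣ (r : ℤ) := by
        have := (Int.natCast_dvd.2 h : ((r ^ 2 : ℕ) : ℤ) ∣ Φ)
        push_cast at this
        simpa using dvd_sub this h4
      have := Int.le_of_dvd (by exact_mod_cast hr.pos) h7
      nlinarith
    obtain ⟨c, hc⟩ := h2
    obtain ⟨ℓ, hℓ, hd⟩ := Nat.exists_prime_and_dvd (show c ≠ 1 by rintro rfl; omega)
    by_cases e : ℓ = r
    · exact h6 (by rw [hc, pow_two]; exact Nat.mul_dvd_mul_left _ (e ▸ hd))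
    · exact hcon ℓ hℓ e (hc ▸ dvd_mul_of_dvd_right hd r)
  have hd : (ℓ : ℤ) ∣ Φ := Int.natCast_dvd.2 hℓΦ
  refine ⟨ℓ, hℓ, hℓr, hmul ▸ hd.mul_right _, fun h => hℓr ?_⟩
  haveI := Fact.mk hℓ
  have h1 : (x : ZMod ℓ) = 1 := by
    have := (ZMod.intCast_zmod_eq_zero_iff_dvd _ ℓ).2 h
    push_cast at this
    exact sub_eq_zero.1 this
  have h2 : ((Φ : ℤ) : ZMod ℓ) = 0 := (ZMod.intCast_zmod_eq_zero_iff_dvd _ ℓ).2 hd
  rw [hΦ] at h2
  simp only [Int.cast_sum, Int.cast_pow, h1, one_pow, Finset.sum_const, Finset.card_range, nsmul_eq_mul, mul_one] at h2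
  exact (Nat.prime_dvd_prime_iff_eq hℓ hr).1 ((ZMod.natCast_eq_zero_iff _ _).1 h2)

/-- the properties of the prime -/
theorem prime_props {r q ℓ : ℕ} (hr : r.Prime) (hr5 : 5 ≤ r) (hq : Odd q) (hℓ : ℓ.Prime) {x : ℤ}
    (hx : x = q ∨ x = -q) (h : (ℓ : ℤ) ∣ x ^ r - 1) (h' : ¬ (ℓ : ℤ) ∣ x - 1) :
    ℓ ≠ 2 ∧ ¬ ℓ ∣ q ∧ ¬ 3 ∣ orderOf (q : ZMod ℓ) ∧ r ≤ orderOf (q : ZMod ℓ) := by
  haveI := Fact.mk hℓ
  obtain ⟨s, hs⟩ := hr.odd_of_ne_two (by omega)
  have hX : ((x : ZMod ℓ)) ^ r = 1 := by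
    have := (ZMod.intCast_zmod_eq_zero_iff_dvd _ ℓ).2 h
    push_cast at this
    exact sub_eq_zero.1 this
  have hX1 : (x : ZMod ℓ) ≠ 1 := fun e => h' ((ZMod.intCast_zmod_eq_zero_iff_dvd _ ℓ).1 (by push_cast; rw [e, sub_self]))
  have hq2 : (q : ZMod ℓ) ^ 2 = (x : ZMod ℓ) ^ 2 := by rcases hx with rfl | rfl <;> push_cast <;> ring
  refine ⟨?_, ?_, ?_⟩
  · rintro rfl
    refine h' ?_
    obtain ⟨k, rfl⟩ := hq
    rcases hx with rfl | rfl
    · exact ⟨k, by push_cast; ring⟩
    · exact ⟨-k - 1, by push_cast; ring⟩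
  · intro hdq
    have h0 : (q : ZMod ℓ) = 0 := (ZMod.natCast_eq_zero_iff _ _).2 hdq
    rw [h0, zero_pow two_ne_zero, eq_comm, pow_eq_zero_iff two_ne_zero] at hq2
    rw [hq2, zero_pow hr.ne_zero] at hX
    exact zero_ne_one hX
  set e := orderOf (q : ZMod ℓ)
  have he : e ∣ 2 * r := orderOf_dvd_of_pow_eq_one (by rw [pow_mul, hq2, ← pow_mul, mul_comm, pow_mul, hX, one_pow])
  have hne : ¬ e ∣ 2 := fun hd => hX1 (by
    have h2 : (q : ZMod ℓ) ^ 2 = 1 := orderOf_dvd_iff_pow_eq_one.1 hd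
    rw [h2] at hq2
    rw [hs, pow_succ, pow_mul, ← hq2, one_pow, one_mul] at hX
    exact hX)
  have hre : r ∣ e := by
    by_contra hre
    exact hne (((hr.coprime_iff_not_dvd.2 hre).symm).dvd_of_dvd_mul_right he)
  have he0 : e ≠ 0 := fun e0 => by rw [e0] at he; simp at he; omega
  refine ⟨fun h3 => ?_, Nat.le_of_dvd (Nat.pos_of_ne_zero he0) hre⟩
  rcases Nat.prime_three.dvd_mul.1 (h3.trans he) with h | h
  · norm_num at h
  · have := (Nat.prime_dvd_prime_iff_eq Nat.prime_three hr).1 h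
    omega

end Num

section Circle

variable {K : Type*} [Field K]

/-- the conic `x² + δ y² = 1` -/
@[ext]
structure Circ (δ : K) where
  /-- first coordinate -/
  x : K
  /-- second coordinate -/
  y : K
  eq : x * x + δ * (y * y) = 1

variable {δ : K}

instance : Mul (Circ δ) := ⟨fun p q => ⟨p.x * q.x - δ * (p.y * q.y), p.x * q.y + p.y * q.x, by
  linear_combination (q.x * q.x + δ * (q.y * q.y)) * p.eq + q.eq⟩⟩

instance : One (Circ δ) := ⟨⟨1, 0, by ring⟩⟩

instance : Inv (Circ δ) := ⟨fun p => ⟨p.x, -p.y, by linear_combination p.eq⟩⟩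

theorem Circ.mul_x (p q : Circ δ) : (p * q).x = p.x * q.x - δ * (p.y * q.y) := rfl

theorem Circ.mul_y (p q : Circ δ) : (p * q).y = p.x * q.y + p.y * q.x := rfl

theorem Circ.one_x : (1 : Circ δ).x = 1 := rfl

theorem Circ.one_y : (1 : Circ δ).y = 0 := rfl

theorem Circ.inv_x (p : Circ δ) : p⁻¹.x = p.x := rfl

theorem Circ.inv_y (p : Circ δ) : p⁻¹.y = -p.y := rfl

instance : CommGroup (Circ δ) where
  mul_assoc a b c := by ext <;> simp only [Circ.mul_x, Circ.mul_y] <;> ring
  one_mul a := by ext <;> simp only [Circ.mul_x, Circ.mul_y, Circ.one_x, Circ.one_y] <;> ring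
  mul_one a := by ext <;> simp only [Circ.mul_x, Circ.mul_y, Circ.one_x, Circ.one_y] <;> ring
  inv_mul_cancel a := by
    ext <;> simp only [Circ.mul_x, Circ.mul_y, Circ.one_x, Circ.one_y, Circ.inv_x, Circ.inv_y]
    · linear_combination a.eq
    · ring
  mul_comm a b := by ext <;> simp only [Circ.mul_x, Circ.mul_y] <;> ring

instance [Finite K] : Finite (Circ δ) :=
  Finite.of_injective (fun p : Circ δ => (p.x, p.y)) fun p q h => Circ.ext (congrArg Prod.fst h) (congrArg Prod.snd h)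

/-- an anisotropic conic has one point more than the field -/
theorem Circ.card_eq [Finite K] (h2 : (2 : K) ≠ 0) (hδ : ¬ IsSquare (-δ)) : Nat.card (Circ δ) = Nat.card K + 1 := by
  classical
  have hden : ∀ s : K, δ + s * s ≠ 0 := fun s e => hδ ⟨s, by linear_combination -e⟩
  have hδ0 : δ ≠ 0 := fun e => hδ (by rw [e, neg_zero]; exact IsSquare.zero)
  let f : Option K → Circ δ := fun o => o.elim ⟨-1, 0, by ring⟩
    fun s => ⟨(δ - s * s) / (δ + s * s), 2 * s / (δ + s * s), by
      have := hden s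
      rw [div_mul_div_comm, div_mul_div_comm, mul_div_assoc', ← add_div, div_eq_one_iff_eq (mul_ne_zero this this)]
      ring⟩
  have hinj : Function.Injective f := by
    rintro (_ | s) (_ | s') h
    · rfl
    · exfalso
      have := congrArg Circ.x h
      simp only [f, Option.elim] at this
      rw [eq_div_iff (hden s')] at this
      exact mul_ne_zero h2 hδ0 (by linear_combination -this)
    · exfalso
      have := congrArg Circ.x h
      simp only [f, Option.elim] at this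
      rw [div_eq_iff (hden s)] at this
      exact mul_ne_zero h2 hδ0 (by linear_combination this)
    · have h1 := congrArg Circ.x h
      have h2' := congrArg Circ.y h
      simp only [f, Option.elim] at h1 h2'
      have a := hden s
      have b := hden s'
      rw [div_eq_div_iff a b] at h1 h2'
      have hsq : s * s = s' * s' := mul_left_cancel₀ (mul_ne_zero h2 hδ0) (by linear_combination -h1)
      rw [hsq, mul_left_inj' b] at h2'
      rw [mul_left_cancel₀ h2 h2']
  have hsurj : Function.Surjective f := by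
    rintro ⟨x, y, e⟩
    by_cases hx : x = -1
    · refine ⟨none, Circ.ext hx.symm ?_⟩
      have : δ * (y * y) = 0 := by rw [hx] at e; linear_combination e
      exact (mul_self_eq_zero.1 ((mul_eq_zero.1 this).resolve_left hδ0)).symm
    · have h1 : 1 + x ≠ 0 := fun h => hx (by linear_combination h)
      refine ⟨some (δ * y / (1 + x)), Circ.ext ?_ ?_⟩ <;>
        simp only [f, Option.elim] <;> rw [div_eq_iff (hden _)] <;> field_simp
      · linear_combination (-(1 + x)) * e
      · linear_combination (-y) * e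
  have := Fintype.ofFinite K
  rw [← Nat.card_eq_of_bijective f ⟨hinj, hsurj⟩, Nat.card_eq_fintype_card, Nat.card_eq_fintype_card,
    Fintype.card_option]

end Circle

variable {F K V : Type*} [Field F] [Field K] [Algebra F K] [AddCommGroup V] [Module F V] [Module K V]
  [IsScalarTower F K V] [Finite K] {Q : QuadraticForm F V} {QK : QuadraticForm K V} {l : K →ₗ[F] F}

theorem Setting.exists_orth (hS : Setting Q QK l) {a : V} (ha : QK a ≠ 0) :
    ∃ b d, polar QK a b = 0 ∧ polar QK a d = 0 ∧ polar QK b d = 0 ∧ QK b ≠ 0 ∧ QK d ≠ 0 := by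
  haveI := hS.finV
  have h2 := hS.twoK
  obtain ⟨b, hab, hb⟩ : ∃ b, polar QK a b = 0 ∧ QK b ≠ 0 := by
    by_contra hc
    push Not at hc
    obtain ⟨z, hz⟩ : ∃ z, z ∉ K ∙ a := by
      by_contra hcon
      push Not at hcon
      have := Submodule.finrank_mono (fun x (_ : x ∈ (⊤ : Submodule K V)) => hcon x)
      have h' := finrank_span_le_card (R := K) ({a} : Set V)
      classical
      rw [Set.toFinset_singleton, Finset.card_singleton] at h'
      rw [finrank_top, hS.three] at this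
      omega
    let pr : V → V := fun x => x + (-(polar QK a x / (2 * QK a))) • a
    have hpr : ∀ x, polar QK a (pr x) = 0 := fun x => by
      simp only [pr, polar_add_right, polar_smul_right, polar_self', smul_eq_mul]
      field_simp
      ring
    have hall : ∀ x y, polar QK (pr x) (pr y) = 0 := fun x y => by
      have := hc _ (polar_perp_add (hpr x) (hpr y))
      rwa [map_add', hc _ (hpr x), hc _ (hpr y), zero_add, zero_add] at this
    refine hz (Submodule.mem_span_singleton.2 ⟨polar QK a z / (2 * QK a), ?_⟩)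
    have h0 : pr z = 0 := eq_zero_of_polar hS.nd fun y => by
      have := hall z y
      simp only [pr] at this ⊢
      rw [polar_add_right, polar_smul_right, polar_comm QK (z + _) a] at this
      have h' := hpr z
      simp only [pr] at h'
      rwa [h', smul_zero, add_zero] at this
    simp only [pr] at h0
    linear_combination (norm := module) -h0
  let L : V →ₗ[K] K × K := (polarBilin QK a).prod (polarBilin QK b)
  obtain ⟨d, hd, hd0⟩ := Submodule.exists_mem_ne_zero_of_ne_bot (p := LinearMap.ker L) (fun e => by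
    have h1 := LinearMap.finrank_range_add_finrank_ker L
    have h2' := Submodule.finrank_le (LinearMap.range L)
    rw [e, finrank_bot, hS.three] at h1
    rw [Module.finrank_prod, Module.finrank_self] at h2'
    omega)
  rw [LinearMap.mem_ker] at hd
  have had : polar QK a d = 0 := congrArg Prod.fst hd
  have hbd : polar QK b d = 0 := congrArg Prod.snd hd
  refine ⟨b, d, hab, had, hbd, hb, fun hqd => hd0 ?_⟩
  have hli : LinearIndependent K ![a, b, d] := by
    rw [Fintype.linearIndependent_iff]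
    intro g hg
    have e : g 0 • a + g 1 • b + g 2 • d = 0 := by simpa [Fin.sum_univ_three] using hg
    have e1 := congrArg (polar QK a) e
    have e2 := congrArg (polar QK b) e
    simp only [polar_add_right, polar_smul_right, polar_self', hab, had, hbd, polar_comm QK b a, smul_eq_mul, mul_zero,
      add_zero, zero_add] at e1 e2
    have z : ∀ u : V, polar QK u 0 = 0 := fun u => by simp [polar]
    rw [z, mul_eq_zero, or_iff_left (mul_ne_zero h2 ha)] at e1
    rw [z, mul_eq_zero, or_iff_left (mul_ne_zero h2 hb)] at e2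
    rw [e1, e2, zero_smul, zero_smul, zero_add, zero_add, smul_eq_zero, or_iff_left hd0] at e
    intro i
    fin_cases i <;> assumption
  have hsp := hli.span_eq_top_of_card_eq_finrank (by rw [hS.three]; rfl)
  refine eq_zero_of_polar hS.nd fun x => ?_
  have hx : x ∈ Submodule.span K (Set.range ![a, b, d]) := hsp ▸ Submodule.mem_top
  obtain ⟨g, hg⟩ := (Submodule.mem_span_range_iff_exists_fun K).1 hx
  rw [← hg]
  simp [Fin.sum_univ_three, polar_add_right, polar_smul_right, polar_comm QK d a, polar_comm QK d b, had, hbd,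
    polar_self', hqd]

/-- the rotations fixing `a` -/
theorem exists_rotHom (QK : QuadraticForm K V) (h2 : (2 : K) ≠ 0) {b d : V} (hbd : polar QK b d = 0) (hb : QK b ≠ 0)
    (hd : QK d ≠ 0) : ∃ R : Circ (QK d / QK b) →* oG QK, Function.Injective R ∧
      ∀ c x, polar QK x b = 0 → polar QK x d = 0 → (R c).1 x = x := by
  set α := QK b with hα
  set β := QK d with hβ
  let g : V →ₗ[K] K := (2 * α)⁻¹ • (polarBilin QK).flip b
  let h : V →ₗ[K] K := (2 * β)⁻¹ • (polarBilin QK).flip d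
  have hg : ∀ x, g x = (2 * α)⁻¹ * polar QK x b := fun x => rfl
  have hh : ∀ x, h x = (2 * β)⁻¹ * polar QK x d := fun x => rfl
  let L : Circ (β / α) → V →ₗ[K] V := fun c =>
    LinearMap.id + (LinearMap.toSpanSingleton K V b).comp ((c.x - 1) • g + (-(β / α * c.y)) • h)
      + (LinearMap.toSpanSingleton K V d).comp (c.y • g + (c.x - 1) • h)
  have hL : ∀ c x, L c x = x + ((c.x - 1) * g x + (-(β / α * c.y)) * h x) • b + (c.y * g x + (c.x - 1) * h x) • d :=
    fun c x => rfl
  have hgL : ∀ c x, g (L c x) = c.x * g x - β / α * c.y * h x := fun c x => by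
    rw [hL]
    simp only [hg, hh, polar_add_left, polar_smul_left, polar_self', polar_comm QK d b, hbd, ← hα, smul_eq_mul]
    field_simp
    ring
  have hhL : ∀ c x, h (L c x) = c.y * g x + c.x * h x := fun c x => by
    rw [hL]
    simp only [hg, hh, polar_add_left, polar_smul_left, polar_self', hbd, ← hβ, smul_eq_mul]
    field_simp
    ring
  have hmul : ∀ c c' x, L (c * c') x = L c (L c' x) := fun c c' x => by
    conv_rhs => rw [hL, hgL, hhL, hL]
    rw [hL, Circ.mul_x, Circ.mul_y]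
    module
  have hone : ∀ x, L 1 x = x := fun x => by rw [hL, Circ.one_x, Circ.one_y]; module
  let E : Circ (β / α) → (V ≃ₗ[K] V) := fun c => LinearEquiv.ofLinear (L c) (L c⁻¹)
    (LinearMap.ext fun x => by rw [LinearMap.comp_apply, ← hmul, mul_inv_cancel, hone]; rfl)
    (LinearMap.ext fun x => by rw [LinearMap.comp_apply, ← hmul, inv_mul_cancel, hone]; rfl)
  have hmem : ∀ c, E c ∈ oG QK := fun c x => by
    show QK (L c x) = QK x
    rw [hL, map_add_two, ← hα, ← hβ, hbd]
    have hgx : polar QK x b = 2 * α * g x := by rw [hg, mul_inv_cancel_left₀ (mul_ne_zero h2 hb)]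
    have hhx : polar QK x d = 2 * β * h x := by rw [hh, mul_inv_cancel_left₀ (mul_ne_zero h2 hd)]
    rw [hgx, hhx]
    have e := c.eq
    field_simp at e ⊢
    linear_combination (α * g x * g x + β * h x * h x) * e
  let R : Circ (β / α) →* oG QK :=
    { toFun := fun c => ⟨E c, hmem c⟩
      map_one' := ext_oG fun x => hone x
      map_mul' := fun c c' => ext_oG fun x => hmul c c' x }
  refine ⟨R, (injective_iff_map_eq_one R).2 fun c hc => ?_, fun c x h1 h2' => ?_⟩
  · have hb0 : L c b = b := congrArg (fun k : oG QK => k.1 b) hc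
    have e1 : g b = 1 := by rw [hg, polar_self', ← hα]; field_simp
    have e2 : h b = 0 := by rw [hh, hbd, mul_zero]
    have h1 := congrArg g hb0
    have h3 := congrArg h hb0
    rw [hgL, e1, e2] at h1
    rw [hhL, e1, e2] at h3
    exact Circ.ext (by rw [Circ.one_x]; linear_combination h1) (by rw [Circ.one_y]; linear_combination h3)
  · show L c x = x
    rw [hL, hg, hh, h1, h2']
    simp

/-- a rotation of suitable prime order fixing an anisotropic vector -/
theorem exists_rot [Fact (5 ≤ finrank F K)] [Fintype F] (hS : Setting Q QK l) {a : V} (ha : QK a ≠ 0) :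
    ∃ (ℓ : ℕ) (z : oG QK), ℓ.Prime ∧ ℓ ≠ 2 ∧ ℓ ≠ finrank F K ∧ ¬ ℓ ∣ Fintype.card F ∧
      ¬ 3 ∣ orderOf (Fintype.card F : ZMod ℓ) ∧ finrank F K ≤ orderOf (Fintype.card F : ZMod ℓ) ∧
      z ∈ commutator (oG QK) ∧ z ^ ℓ = 1 ∧ z ≠ 1 ∧ z.1 a = a := by
  classical
  haveI := hS.fin
  haveI := hS.finV
  haveI : Finite V := Module.finite_of_finite K
  haveI := Fintype.ofFinite K
  obtain ⟨b, d, hab, had, hbd, hb, hd⟩ := hS.exists_orth ha
  obtain ⟨R, hR, hRa⟩ := exists_rotHom QK hS.twoK hbd hb hd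
  set q := Fintype.card F with hq
  set r := finrank F K with hr
  have hqodd : Odd q := by
    rw [hq, Nat.odd_iff]
    rcases Nat.mod_two_eq_zero_or_one (Fintype.card F) with h | h
    · haveI := ringChar.of_eq (FiniteField.even_card_iff_char_two.2 h)
      exact absurd CharTwo.two_eq_zero hS.two
    · exact h
  have hq3 : 3 ≤ q := by
    obtain ⟨k, hk⟩ := hqodd
    have : 1 < q := Fintype.one_lt_card
    omega
  have hcardK : Fintype.card K = q ^ r := Module.card_eq_pow_finrank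
  have fin : ∀ {ℓ : ℕ} (x : ℤ) (c : Circ (QK d / QK b)), ℓ.Prime → ℓ ≠ r → x = q ∨ x = -q → (ℓ : ℤ) ∣ x ^ r - 1 →
      ¬ (ℓ : ℤ) ∣ x - 1 → orderOf c = ℓ →
      ∃ (ℓ : ℕ) (z : oG QK), ℓ.Prime ∧ ℓ ≠ 2 ∧ ℓ ≠ r ∧ ¬ ℓ ∣ q ∧ ¬ 3 ∣ orderOf (q : ZMod ℓ) ∧
        r ≤ orderOf (q : ZMod ℓ) ∧ z ∈ commutator (oG QK) ∧ z ^ ℓ = 1 ∧ z ≠ 1 ∧ z.1 a = a := by
    intro ℓ x c hℓ hℓr hx h1 h2 hc
    obtain ⟨hl2, hlq, hl3, hle⟩ := prime_props hS.prime (Fact.out : 5 ≤ finrank F K) hqodd hℓ hx h1 h2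
    refine ⟨ℓ, R (c * c), hℓ, hl2, hℓr, hlq, hl3, hle, ?_, ?_, ?_, hRa _ _ hab had⟩
    · rw [map_mul]
      exact Exc.sq_mem_commutator hS.nd hS.twoK (by rw [hS.three]; norm_num) _
    · rw [← map_pow, ← pow_two, ← pow_mul, mul_comm, pow_mul, ← hc, pow_orderOf_eq_one, one_pow, map_one]
    · intro e
      have h : c ^ 2 = 1 := by rw [pow_two]; exact (injective_iff_map_eq_one R).1 hR _ e
      have := Nat.le_of_dvd (by norm_num) (hc ▸ orderOf_dvd_of_pow_eq_one h : ℓ ∣ 2)
      have := hℓ.two_le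
      omega
  by_cases hsq : IsSquare (-(QK d / QK b))
  · obtain ⟨γ, hγ⟩ := hsq
    have hγ0 : γ ≠ 0 := fun e => by rw [e, mul_zero, neg_eq_zero, div_eq_zero_iff] at hγ; exact hγ.elim hd hb
    have h2K := hS.twoK
    have hcirc : ∀ ζ : Kˣ, ((ζ : K) + (ζ : K)⁻¹) / 2 * (((ζ : K) + (ζ : K)⁻¹) / 2) + QK d / QK b *
        (((ζ : K) - (ζ : K)⁻¹) / (2 * γ) * (((ζ : K) - (ζ : K)⁻¹) / (2 * γ))) = 1 := fun ζ => by
      rw [show QK d / QK b = -(γ * γ) by rw [← hγ, neg_neg]]
      have := ζ.ne_zero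
      field_simp
      ring
    let P : Kˣ →* Circ (QK d / QK b) :=
      { toFun := fun ζ => ⟨_, _, hcirc ζ⟩
        map_one' := Circ.ext (by simp only [Units.val_one, inv_one, Circ.one_x]; field_simp; ring)
          (by simp [Circ.one_y])
        map_mul' := fun ζ ξ => by
          have := ζ.ne_zero
          have := ξ.ne_zero
          refine Circ.ext ?_ ?_ <;>
            simp only [Units.val_mul, mul_inv, Circ.mul_x, Circ.mul_y,
              show QK d / QK b = -(γ * γ) by rw [← hγ, neg_neg]] <;> field_simp <;> ring }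
    obtain ⟨ℓ, hℓ, hℓr, h1, h2⟩ := exists_prime_dvd hS.prime (Fact.out : 5 ≤ finrank F K) (x := (q : ℤ)) (by simpa using hq3)
    haveI := Fact.mk hℓ
    have hdvd : ℓ ∣ Nat.card Kˣ := by
      rw [Nat.card_units, Nat.card_eq_fintype_card, hcardK]
      have := h1
      rw [← Int.natCast_dvd_natCast, Nat.cast_sub (Nat.one_le_pow _ _ (by omega))]
      push_cast
      exact this
    obtain ⟨ζ, hζ⟩ := exists_prime_orderOf_dvd_card' ℓ hdvd
    refine fin (q : ℤ) (P ζ) hℓ hℓr (Or.inl rfl) h1 h2 ?_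
    rw [← hζ]
    refine orderOf_injective P (fun ζ ξ e => Units.ext ?_) ζ
    have e1 := congrArg Circ.x e
    have e2 := congrArg Circ.y e
    simp only [P, MonoidHom.coe_mk, OneHom.coe_mk] at e1 e2
    have := ζ.ne_zero
    have := ξ.ne_zero
    field_simp at e1 e2
    refine mul_left_cancel₀ h2K ?_
    by_cases hh : (ζ : K) = ξ
    · rw [hh]
    · exfalso
      have e3 : ((ζ : K) - ξ) * ((ζ : K) * ξ - 1) = 0 := by linear_combination e1
      have e4 : ((ζ : K) - ξ) * ((ζ : K) * ξ + 1) = 0 := by linear_combination e2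
      have hne : (ζ : K) - ξ ≠ 0 := sub_ne_zero.2 hh
      exact h2K (by linear_combination ((mul_eq_zero.1 e4).resolve_left hne) - ((mul_eq_zero.1 e3).resolve_left hne))
  · obtain ⟨ℓ, hℓ, hℓr, h1, h2⟩ := exists_prime_dvd hS.prime (Fact.out : 5 ≤ finrank F K) (x := -(q : ℤ)) (by simpa using hq3)
    haveI := Fact.mk hℓ
    have hdvd : ℓ ∣ Nat.card (Circ (QK d / QK b)) := by
      rw [Circ.card_eq hS.twoK hsq, Nat.card_eq_fintype_card, hcardK, ← Int.natCast_dvd_natCast]
      push_cast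
      rw [(hS.prime.odd_of_ne_two hS.ne_two).neg_pow] at h1
      have := h1.neg_right
      rwa [neg_sub, sub_neg_eq_add, add_comm] at this
    obtain ⟨c, hc⟩ := exists_prime_orderOf_dvd_card' ℓ hdvd
    exact fin (-(q : ℤ)) c hℓ hℓr (Or.inr rfl) h1 h2 hc

end Cfsg.Agent.ClassicalMax.ExtOrth3
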